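/-
Additive endomorphism algebras of a cyclic extension of prime degree of finite fields, as bimodules over
the big field.
-/
import Mathlib

set_option autoImplicit false
set_option linter.style.haveILetI false
set_option linter.unusedSectionVars false

namespace Cfsg.Agent.Classical.FieldExt

variable {F E : Type*} [Field F] [Field E] [Algebra F E]

/-- Multiplication by an element. -/
def mulE (c : E) : E →ₗ[F] E := LinearMap.mul F E c

theorem mulE_apply (c x : E) : mulE (F := F) c x = c * x := rfl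

/-- An automorphism as a linear map. -/
def galMap (σ : E ≃ₐ[F] E) : E →ₗ[F] E := σ.toLinearEquiv.toLinearMap

theorem galMap_apply (σ : E ≃ₐ[F] E) (x : E) : galMap σ x = σ x := rfl

/-- An additive group of maps stable under both multiplications by the big field. -/
structure IsBimod (M : AddSubgroup (E →ₗ[F] E)) : Prop where
  left : ∀ c, ∀ A ∈ M, (mulE c).comp A ∈ M
  right : ∀ c, ∀ A ∈ M, A.comp (mulE c) ∈ M

/-- Being a multiplication. -/
def IsMul (A : E →ₗ[F] E) : Prop := ∀ x, A x = A 1 * x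

section

variable [Finite E] {r : ℕ}

theorem finiteDimensional : FiniteDimensional F E := Module.Finite.of_finite

theorem gal_card (hr : Module.finrank F E = r) : Nat.card (E ≃ₐ[F] E) = r := by
  haveI := finiteDimensional (F := F) (E := E)
  haveI : Finite F := Finite.of_injective _ (algebraMap F E).injective
  rw [IsGalois.card_aut_eq_finrank, hr]

theorem gal_zpowers (hr : Module.finrank F E = r) (hp : r.Prime) {σ : E ≃ₐ[F] E} (h : σ ≠ 1) :
    Subgroup.zpowers σ = ⊤ := by
  haveI : Fact r.Prime := ⟨hp⟩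
  exact zpowers_eq_top_of_prime_card (gal_card hr) h

theorem gal_comm (hr : Module.finrank F E = r) (hp : r.Prime) (σ τ : E ≃ₐ[F] E) : σ * τ = τ * σ := by
  haveI : Fact r.Prime := ⟨hp⟩
  haveI : IsCyclic (E ≃ₐ[F] E) := isCyclic_of_prime_card (gal_card hr)
  obtain ⟨g, hg⟩ := IsCyclic.exists_generator (α := E ≃ₐ[F] E)
  obtain ⟨a, rfl⟩ := Subgroup.mem_zpowers_iff.mp (hg σ)
  obtain ⟨b, rfl⟩ := Subgroup.mem_zpowers_iff.mp (hg τ)
  rw [← zpow_add, add_comm, zpow_add]

theorem exists_not_base (hr : Module.finrank F E = r) (hp : r.Prime) : ∃ θ : E, ∀ c : F, algebraMap F E c ≠ θ := by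
  by_contra hcon
  push Not at hcon
  haveI := finiteDimensional (F := F) (E := E)
  have h : Module.finrank F E ≤ Module.finrank F F :=
    LinearMap.finrank_le_finrank_of_surjective (f := (Algebra.linearMap F E)) hcon
  rw [hr, Module.finrank_self] at h
  exact absurd hp.two_le (by omega)

theorem gal_inj_at (hr : Module.finrank F E = r) (hp : r.Prime) {θ : E} (hθ : ∀ c : F, algebraMap F E c ≠ θ)
    {σ τ : E ≃ₐ[F] E} (h : σ θ = τ θ) : σ = τ := by
  haveI := finiteDimensional (F := F) (E := E)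
  haveI : Finite F := Finite.of_injective _ (algebraMap F E).injective
  by_contra hne
  have hρ : τ⁻¹ * σ ≠ 1 := fun e => hne (inv_mul_eq_one.mp e).symm
  have hfix : (τ⁻¹ * σ) • θ = θ := by
    rw [AlgEquiv.smul_def, AlgEquiv.mul_apply, h]
    exact τ.symm_apply_apply θ
  have htop : ∀ g : E ≃ₐ[F] E, g θ = θ := fun g => by
    have hg : g ∈ MulAction.stabilizer (E ≃ₐ[F] E) θ := by
      have hle : Subgroup.zpowers (τ⁻¹ * σ) ≤ MulAction.stabilizer (E ≃ₐ[F] E) θ :=
        Subgroup.zpowers_le.mpr hfix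
      rw [gal_zpowers hr hp hρ] at hle
      exact hle (Subgroup.mem_top g)
    simpa [AlgEquiv.smul_def] using hg
  obtain ⟨c, hc⟩ := (IsGalois.mem_range_algebraMap_iff_fixed (F := F) θ).mpr htop
  exact hθ c hc

theorem exists_coeff (hr : Module.finrank F E = r) [Fintype (E ≃ₐ[F] E)] (A : E →ₗ[F] E) :
    ∃ c : (E ≃ₐ[F] E) → E, ∀ x, A x = ∑ σ, c σ * σ x := by
  haveI := finiteDimensional (F := F) (E := E)
  haveI : Finite F := Finite.of_injective _ (algebraMap F E).injective
  have hli : LinearIndependent E (fun σ : E ≃ₐ[F] E => galMap σ) :=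
    (linearIndependent_algHom_toLinearMap F E E).comp (fun σ : E ≃ₐ[F] E => σ.toAlgHom)
      AlgEquiv.coe_toAlgHom_injective
  have hcard : Fintype.card (E ≃ₐ[F] E) = Module.finrank E (E →ₗ[F] E) := by
    rw [Module.finrank_linearMap, Module.finrank_self, mul_one, hr, Fintype.card_eq_nat_card, gal_card hr]
  have htop := hli.span_eq_top_of_card_eq_finrank' hcard
  obtain ⟨c, hc⟩ := (Submodule.mem_span_range_iff_exists_fun E).mp (htop.ge (Submodule.mem_top : A ∈ ⊤))
  exact ⟨c, fun x => by rw [← hc]; simp [galMap_apply]⟩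

theorem extract (hr : Module.finrank F E = r) (hp : r.Prime) {M : AddSubgroup (E →ₗ[F] E)} (hM : IsBimod M)
    [Fintype (E ≃ₐ[F] E)] :
    ∀ (n : ℕ) (A : E →ₗ[F] E) (c : (E ≃ₐ[F] E) → E), A ∈ M → (∀ x, A x = ∑ σ, c σ * σ x) →
      Nat.card {σ // c σ ≠ 0} ≤ n → ∀ σ, c σ ≠ 0 → galMap σ ∈ M := by
  classical
  obtain ⟨θ, hθ⟩ := exists_not_base hr hp
  intro n
  induction n with
  | zero =>
    intro A c _ _ hn σ hσ
    haveI : Nonempty {σ // c σ ≠ 0} := ⟨⟨σ, hσ⟩⟩
    have := Nat.card_pos (α := {σ // c σ ≠ 0})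
    omega
  | succ n ih =>
    intro A c hA hc hn σ hσ
    by_cases hone : ∀ τ, c τ ≠ 0 → τ = σ
    · have e : galMap σ = (mulE (c σ)⁻¹).comp A := LinearMap.ext fun x => by
        rw [LinearMap.comp_apply, mulE_apply, galMap_apply, hc,
          Finset.sum_eq_single σ (fun τ _ hτ => by
            rw [show c τ = 0 from by_contra fun h => hτ (hone τ h), zero_mul]) (by simp),
          ← mul_assoc, inv_mul_cancel₀ hσ, one_mul]
      rw [e]
      exact hM.left _ _ hA
    push Not at hone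
    obtain ⟨τ, hτ, hτσ⟩ := hone
    refine ih (A.comp (mulE θ) - (mulE (τ θ)).comp A) (fun ρ => c ρ * (ρ θ - τ θ))
      (sub_mem (hM.right _ _ hA) (hM.left _ _ hA)) (fun x => ?_) ?_ σ ?_
    · rw [LinearMap.sub_apply, LinearMap.comp_apply, LinearMap.comp_apply, mulE_apply, mulE_apply, hc, hc,
        Finset.mul_sum, ← Finset.sum_sub_distrib]
      refine Finset.sum_congr rfl fun ρ _ => ?_
      rw [map_mul]; ring
    · have hsub : ({ρ : E ≃ₐ[F] E | c ρ * (ρ θ - τ θ) ≠ 0}).ncard < ({ρ : E ≃ₐ[F] E | c ρ ≠ 0}).ncard := by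
        refine Set.ncard_lt_ncard ⟨fun ρ hρ => left_ne_zero_of_mul hρ, fun h => ?_⟩
        have := h hτ
        simp at this
      have e1 : Nat.card {ρ // c ρ * (ρ θ - τ θ) ≠ 0} = ({ρ : E ≃ₐ[F] E | c ρ * (ρ θ - τ θ) ≠ 0}).ncard :=
        Nat.card_coe_set_eq _
      have e2 : Nat.card {ρ // c ρ ≠ 0} = ({ρ : E ≃ₐ[F] E | c ρ ≠ 0}).ncard := Nat.card_coe_set_eq _
      omega
    · exact mul_ne_zero hσ (sub_ne_zero.mpr fun e => hτσ (gal_inj_at hr hp hθ e).symm)

/-- A map that is not a multiplication has a component along a non-trivial automorphism. -/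
theorem exists_gal_mem (hr : Module.finrank F E = r) (hp : r.Prime) {M : AddSubgroup (E →ₗ[F] E)} (hM : IsBimod M)
    {A : E →ₗ[F] E} (hA : A ∈ M) (hnl : ¬ IsMul A) : ∃ σ : E ≃ₐ[F] E, σ ≠ 1 ∧ galMap σ ∈ M := by
  classical
  haveI : Finite (E ≃ₐ[F] E) := Finite.of_injective (fun g : E ≃ₐ[F] E => (g : E → E)) DFunLike.coe_injective
  letI := Fintype.ofFinite (E ≃ₐ[F] E)
  obtain ⟨c, hc⟩ := exists_coeff hr A
  by_contra hcon
  push Not at hcon
  refine hnl fun x => ?_
  have h0 : ∀ σ : E ≃ₐ[F] E, σ ≠ 1 → c σ = 0 := fun σ hσ => by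
    by_contra h
    exact hcon σ hσ (extract hr hp hM _ A c hA hc le_rfl σ h)
  have e : ∀ y, A y = c 1 * y := fun y => by
    rw [hc, Finset.sum_eq_single 1 (fun σ _ hσ => by rw [h0 σ hσ, zero_mul]) (by simp), AlgEquiv.one_apply]
  rw [e x, e 1, mul_one]

/-- A subring of maps containing the multiplications and something more is everything. -/
theorem eq_top_of_subring (hr : Module.finrank F E = r) (hp : r.Prime) {M : AddSubgroup (E →ₗ[F] E)} (hM : IsBimod M)
    (h1 : LinearMap.id ∈ M) (hcomp : ∀ A ∈ M, ∀ B ∈ M, A.comp B ∈ M) {A : E →ₗ[F] E} (hA : A ∈ M)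
    (hnl : ¬ IsMul A) : M = ⊤ := by
  classical
  haveI : Finite (E ≃ₐ[F] E) := Finite.of_injective (fun g : E ≃ₐ[F] E => (g : E → E)) DFunLike.coe_injective
  letI := Fintype.ofFinite (E ≃ₐ[F] E)
  obtain ⟨σ, hσ, hσM⟩ := exists_gal_mem hr hp hM hA hnl
  have hpow : ∀ k : ℕ, galMap (σ ^ k) ∈ M := by
    intro k
    induction k with
    | zero => rw [pow_zero]; exact h1
    | succ k ih => rw [pow_succ]; exact hcomp _ ih _ hσM
  have hall : ∀ τ : E ≃ₐ[F] E, galMap τ ∈ M := fun τ => by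
    have : τ ∈ Submonoid.powers σ := mem_powers_iff_mem_zpowers.mpr (by rw [gal_zpowers hr hp hσ]; trivial)
    obtain ⟨k, rfl⟩ := this
    exact hpow k
  refine eq_top_iff.mpr fun B _ => ?_
  obtain ⟨c, hc⟩ := exists_coeff hr B
  have e : B = ∑ τ, (mulE (c τ)).comp (galMap τ) := LinearMap.ext fun x => by
    rw [hc, LinearMap.sum_apply]
    rfl
  rw [e]
  exact sum_mem fun τ _ => hM.left _ _ (hall τ)

/-- Left idealiser of a proper bimodule. -/
theorem isMul_of_left_ideal (hr : Module.finrank F E = r) (hp : r.Prime) {M : AddSubgroup (E →ₗ[F] E)} (hM : IsBimod M)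
    (h1 : LinearMap.id ∈ M) (hne : M ≠ ⊤) {B : E →ₗ[F] E} (hB : ∀ A ∈ M, B.comp A ∈ M) : IsMul B := by
  by_contra hnl
  let S : AddSubgroup (E →ₗ[F] E) :=
    { carrier := {B | ∀ A ∈ M, B.comp A ∈ M}
      zero_mem' := fun A _ => by rw [LinearMap.zero_comp]; exact zero_mem M
      add_mem' := fun {a b} ha hb A hA => by rw [LinearMap.add_comp]; exact add_mem (ha A hA) (hb A hA)
      neg_mem' := fun {a} ha A hA => by rw [LinearMap.neg_comp]; exact neg_mem (ha A hA) }
  have hS : IsBimod S := ⟨fun c C hC A hA => hM.left c _ (hC A hA),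
    fun c C hC A hA => hC _ (hM.left c A hA)⟩
  have htop : S = ⊤ := eq_top_of_subring hr hp hS (fun A hA => hA) (fun C hC D hD A hA => hC _ (hD A hA))
    (A := B) hB hnl
  refine hne (eq_top_iff.mpr fun C _ => ?_)
  have : C ∈ S := htop ▸ AddSubgroup.mem_top C
  simpa using this _ h1

/-- Right idealiser of a proper bimodule. -/
theorem isMul_of_right_ideal (hr : Module.finrank F E = r) (hp : r.Prime) {M : AddSubgroup (E →ₗ[F] E)} (hM : IsBimod M)
    (h1 : LinearMap.id ∈ M) (hne : M ≠ ⊤) {B : E →ₗ[F] E} (hB : ∀ A ∈ M, A.comp B ∈ M) : IsMul B := by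
  by_contra hnl
  let S : AddSubgroup (E →ₗ[F] E) :=
    { carrier := {B | ∀ A ∈ M, A.comp B ∈ M}
      zero_mem' := fun A _ => by rw [LinearMap.comp_zero]; exact zero_mem M
      add_mem' := fun {a b} ha hb A hA => by rw [LinearMap.comp_add]; exact add_mem (ha A hA) (hb A hA)
      neg_mem' := fun {a} ha A hA => by rw [LinearMap.comp_neg]; exact neg_mem (ha A hA) }
  have hS : IsBimod S := ⟨fun c C hC A hA => hC _ (hM.right c A hA),
    fun c C hC A hA => hM.right c _ (hC A hA)⟩
  have htop : S = ⊤ := eq_top_of_subring hr hp hS (fun A hA => hA) (fun C hC D hD A hA => hD _ (hC A hA))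
    (A := B) hB hnl
  refine hne (eq_top_iff.mpr fun C _ => ?_)
  have : C ∈ S := htop ▸ AddSubgroup.mem_top C
  simpa using this _ h1

/-- Conjugation by an automorphism preserves a bimodule. -/
theorem twist_mem (hr : Module.finrank F E = r) (hp : r.Prime) {M : AddSubgroup (E →ₗ[F] E)} (hM : IsBimod M)
    (ρ : E ≃ₐ[F] E) {A : E →ₗ[F] E} (hA : A ∈ M) : (galMap ρ⁻¹).comp (A.comp (galMap ρ)) ∈ M := by
  classical
  haveI : Finite (E ≃ₐ[F] E) := Finite.of_injective (fun g : E ≃ₐ[F] E => (g : E → E)) DFunLike.coe_injective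
  letI := Fintype.ofFinite (E ≃ₐ[F] E)
  obtain ⟨c, hc⟩ := exists_coeff hr A
  have e : (galMap ρ⁻¹).comp (A.comp (galMap ρ)) = ∑ σ, (mulE (ρ⁻¹ (c σ))).comp (galMap σ) := by
    refine LinearMap.ext fun x => ?_
    rw [LinearMap.comp_apply, LinearMap.comp_apply, galMap_apply, galMap_apply, hc, map_sum, LinearMap.sum_apply]
    refine Finset.sum_congr rfl fun σ _ => ?_
    rw [map_mul, LinearMap.comp_apply, mulE_apply, galMap_apply]
    congr 1
    have h : σ (ρ x) = ρ (σ x) := DFunLike.congr_fun (gal_comm hr hp σ ρ) x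
    rw [h]
    exact ρ.symm_apply_apply _
  rw [e]
  refine sum_mem fun σ _ => ?_
  by_cases h : c σ = 0
  · rw [h, map_zero]
    have e0 : (mulE (F := F) (0 : E)).comp (galMap σ) = 0 := LinearMap.ext fun x => by simp [mulE_apply]
    rw [e0]
    exact zero_mem M
  exact hM.left _ _ (extract hr hp hM _ A c hA hc le_rfl σ h)

end

end Cfsg.Agent.Classical.FieldExt
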