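/-
Block root elements of `GL_{mr}(q)` written on `E^m`, `E` the field of degree `r` over `F`.
-/
import Cfsg.Agent.Lib.Classical.FieldExt.Gal
import Cfsg.Agent.Lib.Classical.LinBasic

set_option autoImplicit false
set_option linter.style.haveILetI false
set_option linter.unusedSectionVars false

namespace Cfsg.Agent.Classical.FieldExt

variable {F E : Type*} [Field F] [Field E] [Algebra F E] {m : ℕ}

/-- The group of `F`-linear bijections of `E^m`. -/
abbrev GG (F E : Type*) [Field F] [Field E] [Algebra F E] (m : ℕ) := (Fin m → E) ≃ₗ[F] (Fin m → E)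

instance gg_finite [Finite E] : Finite (GG F E m) :=
  Finite.of_injective (fun g : GG F E m => (g : (Fin m → E) → (Fin m → E))) DFunLike.coe_injective

/-- Semilinearity over `E`. -/
def Semi (g : GG F E m) : Prop := ∃ σ : E → E, ∀ (c : E) (v : Fin m → E), g (c • v) = σ c • g v

/-- The nilpotent block map. -/
def blockMap (i j : Fin m) (A : E →ₗ[F] E) : (Fin m → E) →ₗ[F] (Fin m → E) :=
  (LinearMap.single F (fun _ : Fin m => E) i).comp (A.comp (LinearMap.proj j))

theorem blockMap_apply (i j : Fin m) (A : E →ₗ[F] E) (v : Fin m → E) : blockMap i j A v = Pi.single i (A (v j)) := rfl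

theorem blockMap_sq {i j : Fin m} (h : i ≠ j) (A : E →ₗ[F] E) (v : Fin m → E) :
    blockMap i j A (blockMap i j A v) = 0 := by
  rw [blockMap_apply, blockMap_apply, Pi.single_eq_of_ne h.symm, map_zero, Pi.single_zero]

/-- The block transvection `1 + A` from coordinate `j` to coordinate `i`. -/
def tv {i j : Fin m} (h : i ≠ j) (A : E →ₗ[F] E) : GG F E m :=
  LinearEquiv.ofLinearMap (LinearMap.id + blockMap i j A) (LinearMap.id - blockMap i j A)
    (LinearMap.ext fun v => by
      simp only [LinearMap.comp_apply, LinearMap.add_apply, LinearMap.sub_apply, LinearMap.id_apply, map_sub, blockMap_sq h]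
      abel)
    (LinearMap.ext fun v => by
      simp only [LinearMap.comp_apply, LinearMap.add_apply, LinearMap.sub_apply, LinearMap.id_apply, map_add, blockMap_sq h]
      abel)

theorem tv_apply {i j : Fin m} (h : i ≠ j) (A : E →ₗ[F] E) (v : Fin m → E) :
    tv h A v = v + Pi.single i (A (v j)) := rfl

theorem tv_apply_self {i j : Fin m} (h : i ≠ j) (A : E →ₗ[F] E) (v : Fin m → E) :
    tv h A v i = v i + A (v j) := by rw [tv_apply, Pi.add_apply, Pi.single_eq_same]

theorem tv_apply_ne {i j k : Fin m} (h : i ≠ j) (hk : k ≠ i) (A : E →ₗ[F] E) (v : Fin m → E) :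
    tv h A v k = v k := by rw [tv_apply, Pi.add_apply, Pi.single_eq_of_ne hk, add_zero]

theorem tv_mul {i j : Fin m} (h : i ≠ j) (A B : E →ₗ[F] E) : tv h A * tv h B = tv h (A + B) := by
  refine LinearEquiv.ext fun v => ?_
  rw [LinearEquiv.mul_apply, tv_apply, tv_apply, tv_apply, Pi.add_apply, Pi.single_eq_of_ne h.symm, add_zero,
    LinearMap.add_apply, Pi.single_add]
  abel

theorem tv_zero {i j : Fin m} (h : i ≠ j) : tv h (0 : E →ₗ[F] E) = 1 :=
  LinearEquiv.ext fun v => by simp [tv_apply]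

theorem tv_inv {i j : Fin m} (h : i ≠ j) (A : E →ₗ[F] E) : (tv h A)⁻¹ = tv h (-A) :=
  inv_eq_of_mul_eq_one_right (by rw [tv_mul, add_neg_cancel, tv_zero])

theorem tv_pow {i j : Fin m} (h : i ≠ j) (A : E →ₗ[F] E) (n : ℕ) : tv h A ^ n = tv h (n • A) := by
  induction n with
  | zero => rw [pow_zero, zero_smul, tv_zero]
  | succ n ih => rw [pow_succ, ih, tv_mul, succ_nsmul]

theorem tv_inj {i j : Fin m} (h : i ≠ j) {A B : E →ₗ[F] E} (e : tv h A = tv h B) : A = B :=
  LinearMap.ext fun x => by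
    have := congrArg (fun g : GG F E m => g (Pi.single j x) i) e
    simpa [tv_apply_self] using this

theorem tv_comm_comp {i j k : Fin m} (hij : i ≠ j) (hjk : j ≠ k) (hik : i ≠ k) (A B : E →ₗ[F] E) :
    tv hij A * tv hjk B * (tv hij A)⁻¹ * (tv hjk B)⁻¹ = tv hik (A.comp B) := by
  rw [mul_inv_eq_iff_eq_mul, mul_inv_eq_iff_eq_mul]
  refine LinearEquiv.ext fun v => funext fun l => ?_
  simp only [LinearEquiv.mul_apply, tv_apply, Pi.add_apply, LinearMap.comp_apply]
  by_cases hli : l = i
  · subst hli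
    simp [hij, hij.symm, hik, hik.symm, hjk, hjk.symm, map_add, add_assoc, add_comm, add_left_comm]
  · by_cases hlj : l = j
    · subst hlj
      simp [hli, hij, hij.symm, hik, hik.symm, hjk, hjk.symm]
    · simp [hli, hlj]

theorem det_eq_one_of_pow (p : ℕ) [Fact p.Prime] [CharP F p] {g : GG F E m} {k : ℕ} (h : g ^ (p ^ k) = 1) :
    LinearEquiv.det g = 1 := by
  have h1 : LinearEquiv.det g ^ (p ^ k) = 1 := by rw [← map_pow, h, map_one]
  have h2 : ((LinearEquiv.det g : Fˣ) : F) ^ (p ^ k) = 1 := by rw [← Units.val_pow_eq_pow_val, h1, Units.val_one]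
  have h3 : (((LinearEquiv.det g : Fˣ) : F) - 1) ^ (p ^ k) = 0 := by rw [sub_pow_char_pow, one_pow, h2, sub_self]
  exact Units.ext (sub_eq_zero.mp (pow_eq_zero_iff'.mp h3).1)

theorem charE (p : ℕ) [CharP F p] : CharP E p := charP_of_injective_algebraMap' F p

theorem tv_pow_char (p : ℕ) [CharP F p] {i j : Fin m} (h : i ≠ j) (A : E →ₗ[F] E) : tv h A ^ p = 1 := by
  have : (p : ℕ) • A = 0 := by
    rw [← Nat.cast_smul_eq_nsmul F, CharP.cast_eq_zero, zero_smul]
  rw [tv_pow, this, tv_zero]

theorem tv_det (p : ℕ) [Fact p.Prime] [CharP F p] {i j : Fin m} (h : i ≠ j) (A : E →ₗ[F] E) :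
    LinearEquiv.det (tv h A) = 1 :=
  det_eq_one_of_pow p (k := 1) (by rw [pow_one, tv_pow_char p h A])

theorem tv_mul_semi {i j : Fin m} (h : i ≠ j) {A : E →ₗ[F] E} (hA : IsMul A) (c : E) (v : Fin m → E) :
    tv h A (c • v) = c • tv h A v := by
  have hl : A (c * v j) = c * A (v j) := by rw [hA (c * v j), hA (v j)]; ring
  rw [tv_apply, tv_apply, smul_add, Pi.smul_apply, smul_eq_mul, hl, ← smul_eq_mul, Pi.single_smul]

theorem isMul_mulE (c : E) : IsMul (mulE (F := F) c) := fun x => by simp [mulE_apply]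

theorem isMul_id : IsMul (LinearMap.id : E →ₗ[F] E) := fun x => by simp

theorem eq_mulE {A : E →ₗ[F] E} (hA : IsMul A) : A = mulE (A 1) := LinearMap.ext fun x => by rw [hA, mulE_apply]

/-- A subgroup of a finite group from closedness under products. -/
def subgroupOfFinite {G : Type*} [Group G] [Finite G] (S : Set G) (h1 : (1 : G) ∈ S)
    (hm : ∀ a ∈ S, ∀ b ∈ S, a * b ∈ S) : Subgroup G where
  carrier := S
  one_mem' := h1
  mul_mem' ha hb := hm _ ha _ hb
  inv_mem' {a} ha := by
    let T : Submonoid G := { carrier := S, one_mem' := h1, mul_mem' := fun ha hb => hm _ ha _ hb }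
    have h2 : a⁻¹ ∈ Submonoid.powers a := mem_powers_iff_mem_zpowers.mpr (inv_mem (Subgroup.mem_zpowers a))
    exact (Submonoid.powers_le.mpr (show a ∈ T from ha)) h2

variable [Finite E]

/-- Block upper unitriangular elements. -/
def BU (F E : Type*) [Field F] [Field E] [Algebra F E] [Finite E] (m : ℕ) : Subgroup (GG F E m) :=
  subgroupOfFinite {g | ∀ (v : Fin m → E) (i : Fin m), (∀ j, i < j → v j = 0) → g v i = v i}
    (fun v i _ => rfl)
    (fun a ha b hb v i hv => by
      rw [LinearEquiv.mul_apply, ha _ i (fun j hj => by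
        rw [hb v j (fun k hk => hv k (hj.trans hk))]; exact hv j hj), hb v i hv])

theorem mem_BU {g : GG F E m} :
    g ∈ BU F E m ↔ ∀ (v : Fin m → E) (i : Fin m), (∀ j, i < j → v j = 0) → g v i = v i := Iff.rfl

theorem tv_mem_BU {i j : Fin m} (h : i < j) (A : E →ₗ[F] E) : tv h.ne A ∈ BU F E m := fun v k hv => by
  by_cases hk : k = i
  · subst hk
    rw [tv_apply_self, hv j h, map_zero, add_zero]
  · rw [tv_apply_ne _ hk]

/-- The `E`-linear elements. -/
def Lin (F E : Type*) [Field F] [Field E] [Algebra F E] [Finite E] (m : ℕ) : Subgroup (GG F E m) :=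
  subgroupOfFinite {g | ∀ (c : E) (v : Fin m → E), g (c • v) = c • g v}
    (fun _ _ => rfl)
    (fun a ha b hb c v => by rw [LinearEquiv.mul_apply, hb c v, ha]; rfl)

theorem mem_Lin {g : GG F E m} : g ∈ Lin F E m ↔ ∀ (c : E) (v : Fin m → E), g (c • v) = c • g v := Iff.rfl

theorem semi_of_lin {g : GG F E m} (h : g ∈ Lin F E m) : Semi g := ⟨id, h⟩

theorem tv_mem_Lin {i j : Fin m} (h : i ≠ j) {A : E →ₗ[F] E} (hA : IsMul A) : tv h A ∈ Lin F E m :=
  fun c v => tv_mul_semi h hA c v

theorem BU_pow [NeZero m] (p : ℕ) [Fact p.Prime] [CharP F p] {g : GG F E m} (hg : g ∈ BU F E m) :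
    ∃ k, g ^ (p ^ k) = 1 := by
  let g' : Module.End F (Fin m → E) := g.toLinearMap
  let N : Module.End F (Fin m → E) := g' - 1
  have hN : ∀ v i, (∀ j, i < j → v j = 0) → N v i = 0 := fun v i hv => by
    simp only [N, g', LinearMap.sub_apply, Module.End.one_apply, Pi.sub_apply, LinearEquiv.coe_coe, hg v i hv, sub_self]
  have hd : ∀ d : ℕ, ∀ v (j : Fin m), m ≤ (j : ℕ) + d → (N ^ d) v j = 0 := by
    intro d
    induction d with
    | zero => intro v j hj; have := j.isLt; omega
    | succ d ih =>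
      intro v j hj
      rw [pow_succ', Module.End.mul_apply]
      exact hN _ j fun k hk => ih v k (by have : (j : ℕ) < k := hk; omega)
  refine ⟨m, ?_⟩
  haveI : Nontrivial (Module.End F (Fin m → E)) := inferInstance
  haveI : CharP (Module.End F (Fin m → E)) p := charP_of_injective_algebraMap' F p
  have hz : N ^ (p ^ m) = 0 := LinearMap.ext fun v => funext fun j =>
    hd _ v j ((Nat.lt_pow_self (Fact.out : p.Prime).one_lt).le.trans (Nat.le_add_left _ _))
  have he : g' ^ (p ^ m) = 1 := by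
    have e : g' = N + 1 := by simp [N]
    rw [e, add_pow_char_pow_of_commute p m (Commute.one_right N), hz, one_pow, zero_add]
  refine LinearEquiv.ext fun v => ?_
  have hc : ∀ n : ℕ, ∀ v, (g' ^ n) v = (g ^ n) v := fun n => by
    induction n with
    | zero => intro v; rfl
    | succ n ih => intro v; rw [pow_succ, pow_succ, Module.End.mul_apply, LinearEquiv.mul_apply, ← ih]; rfl
  rw [← hc, he]
  rfl

theorem BU_isPGroup [NeZero m] (p : ℕ) [Fact p.Prime] [CharP F p] : IsPGroup p (BU F E m) := fun g => by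
  obtain ⟨k, hk⟩ := BU_pow p g.2
  exact ⟨k, Subtype.ext (by rw [SubgroupClass.coe_pow, hk, OneMemClass.coe_one])⟩

theorem BU_det [NeZero m] (p : ℕ) [Fact p.Prime] [CharP F p] {g : GG F E m} (hg : g ∈ BU F E m) :
    LinearEquiv.det g = 1 := by
  obtain ⟨k, hk⟩ := BU_pow p hg
  exact det_eq_one_of_pow p hk

/-- Componentwise multiplication. -/
noncomputable def dg (a : Fin m → Eˣ) : GG F E m :=
  LinearEquiv.piCongrRight fun i => LinearEquiv.ofBijective (mulE (a i : E)) ⟨fun x y h => by
    simpa [mulE_apply] using h, fun y => ⟨(a i : E)⁻¹ * y, by simp [mulE_apply]⟩⟩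

theorem dg_apply (a : Fin m → Eˣ) (v : Fin m → E) (i : Fin m) : dg (F := F) a v i = (a i : E) * v i := rfl

theorem dg_mem_Lin (a : Fin m → Eˣ) : dg (F := F) a ∈ Lin F E m := fun c v => funext fun i => by
  simp only [dg_apply, Pi.smul_apply, smul_eq_mul]
  ring

theorem dg_det (a : Fin m → Eˣ) :
    ((LinearEquiv.det (dg (F := F) a) : Fˣ) : F) = ∏ i, Algebra.norm F (a i : E) := by
  haveI := finiteDimensional (F := F) (E := E)
  rw [LinearEquiv.coe_det]
  have e : (dg (F := F) a).toLinearMap =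
      LinearMap.pi (fun i => (mulE (a i : E)).comp (LinearMap.proj i)) := rfl
  rw [e, LinearMap.det_pi]
  exact Finset.prod_congr rfl fun i _ => (Algebra.norm_apply F (a i : E)).symm

theorem dg_conj (a : Fin m → Eˣ) {i j : Fin m} (h : i ≠ j) (A : E →ₗ[F] E) :
    dg a * tv h A * (dg a)⁻¹ = tv h ((mulE (a i : E)).comp (A.comp (mulE ((a j)⁻¹ : Eˣ)))) := by
  rw [mul_inv_eq_iff_eq_mul]
  refine LinearEquiv.ext fun v => funext fun k => ?_
  simp only [LinearEquiv.mul_apply]
  rw [dg_apply]
  by_cases hk : k = i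
  · subst hk
    simp only [tv_apply_self, dg_apply, LinearMap.comp_apply, mulE_apply, Units.inv_mul_cancel_left, mul_add]
  · rw [tv_apply_ne _ hk, tv_apply_ne _ hk, dg_apply]

/-- The maps occurring in block `(i, j)` of `X`. -/
def Mij (X : Subgroup (GG F E m)) {i j : Fin m} (h : i ≠ j) : AddSubgroup (E →ₗ[F] E) where
  carrier := {A | tv h A ∈ X}
  zero_mem' := show tv h 0 ∈ X by rw [tv_zero]; exact one_mem X
  add_mem' {a b} ha hb := show tv h (a + b) ∈ X by rw [← tv_mul]; exact mul_mem ha hb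
  neg_mem' {a} ha := show tv h (-a) ∈ X by rw [← tv_inv]; exact inv_mem ha

theorem mem_Mij {X : Subgroup (GG F E m)} {i j : Fin m} (h : i ≠ j) {A : E →ₗ[F] E} : A ∈ Mij X h ↔ tv h A ∈ X :=
  Iff.rfl

/-- The elementary column map. -/
def col (i₀ : Fin m) (c : Fin m → E) (hc : c i₀ = 0) : GG F E m where
  toFun v := v + v i₀ • c
  map_add' u v := by rw [Pi.add_apply, add_smul]; abel
  map_smul' a v := by rw [RingHom.id_apply, Pi.smul_apply, smul_add, smul_assoc]
  invFun v := v - v i₀ • c
  left_inv v := by simp [hc]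
  right_inv v := by simp [hc]

theorem col_apply (i₀ : Fin m) (c : Fin m → E) (hc : c i₀ = 0) (v : Fin m → E) :
    col (F := F) i₀ c hc v = v + v i₀ • c := rfl

theorem col_mem_Lin (i₀ : Fin m) (c : Fin m → E) (hc : c i₀ = 0) : col (F := F) i₀ c hc ∈ Lin F E m :=
  fun a v => by rw [col_apply, col_apply, Pi.smul_apply, smul_add, smul_eq_mul, mul_smul]

theorem col_pow (i₀ : Fin m) (c : Fin m → E) (hc : c i₀ = 0) (n : ℕ) (v : Fin m → E) :
    (col (F := F) i₀ c hc ^ n) v = v + n • (v i₀ • c) := by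
  induction n generalizing v with
  | zero => simp
  | succ n ih =>
    rw [pow_succ, LinearEquiv.mul_apply, ih, col_apply, Pi.add_apply, Pi.smul_apply, hc, smul_zero, add_zero, succ_nsmul]
    abel

theorem col_det (p : ℕ) [Fact p.Prime] [CharP F p] (i₀ : Fin m) (c : Fin m → E) (hc : c i₀ = 0) :
    LinearEquiv.det (col (F := F) i₀ c hc) = 1 :=
  det_eq_one_of_pow p (k := 1) (LinearEquiv.ext fun v => by
    haveI : CharP E p := charE (F := F) p
    rw [pow_one, col_pow, ← Nat.cast_smul_eq_nsmul E, CharP.cast_eq_zero, zero_smul, add_zero]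
    rfl)

end Cfsg.Agent.Classical.FieldExt
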