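/-
The blocks of an overgroup of the semilinear group, and the case where they are full.
-/
import Cfsg.Agent.Lib.Classical.FieldExt.Basic

set_option autoImplicit false
set_option linter.style.haveILetI false
set_option linter.unusedSectionVars false

namespace Cfsg.Agent.Classical.FieldExt

variable {F E : Type*} [Field F] [Field E] [Algebra F E] [Finite E] {m : ℕ}
  (p : ℕ) [Fact p.Prime] [CharP F p] {X : Subgroup (GG F E m)}
  (hN : ∀ g : GG F E m, Semi g → LinearEquiv.det g = 1 → g ∈ X)

include p hN

theorem tvE_mem {i j : Fin m} (h : i ≠ j) {A : E →ₗ[F] E} (hA : IsMul A) : tv h A ∈ X :=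
  hN _ (semi_of_lin (tv_mem_Lin h hA)) (tv_det p h A)

theorem id_mem_Mij {i j : Fin m} (h : i ≠ j) : LinearMap.id ∈ Mij X h := tvE_mem p hN h isMul_id

theorem mulE_mem_Mij {i j : Fin m} (h : i ≠ j) (c : E) : mulE c ∈ Mij X h := tvE_mem p hN h (isMul_mulE c)

theorem comp_mem_Mij {i j k : Fin m} (hij : i ≠ j) (hjk : j ≠ k) (hik : i ≠ k) {A B : E →ₗ[F] E}
    (hA : A ∈ Mij X hij) (hB : B ∈ Mij X hjk) : A.comp B ∈ Mij X hik := by
  rw [mem_Mij, ← tv_comm_comp hij hjk hik]
  exact mul_mem (mul_mem (mul_mem hA hB) (inv_mem hA)) (inv_mem hB)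

theorem column_step {i j k : Fin m} (hij : i ≠ j) (hik : i ≠ k) {A : E →ₗ[F] E} (hA : A ∈ Mij X hij) :
    A ∈ Mij X hik := by
  by_cases hjk : j = k
  · subst hjk; exact hA
  · have := comp_mem_Mij p hN hij hjk hik hA (id_mem_Mij p hN hjk)
    rwa [LinearMap.comp_id] at this

theorem row_step {i j l : Fin m} (hij : i ≠ j) (hlj : l ≠ j) {A : E →ₗ[F] E} (hA : A ∈ Mij X hij) :
    A ∈ Mij X hlj := by
  by_cases hli : l = i
  · subst hli; exact hA
  · have := comp_mem_Mij p hN hli hij hlj (id_mem_Mij p hN hli) hA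
    rwa [LinearMap.id_comp] at this

theorem swap_step {i j : Fin m} (hij : i ≠ j) (hall : ∀ k, k = i ∨ k = j) {A : E →ₗ[F] E} (hA : A ∈ Mij X hij) :
    A ∈ Mij X hij.symm := by
  let w : GG F E m := tv hij LinearMap.id * tv hij.symm (-LinearMap.id) * tv hij LinearMap.id
  have hw : w ∈ X := mul_mem (mul_mem (id_mem_Mij p hN hij) (neg_mem (id_mem_Mij p hN hij.symm))) (id_mem_Mij p hN hij)
  have hwv : ∀ v, w v i = v j ∧ w v j = -v i := fun v => by
    constructor <;>
      simp only [w, LinearEquiv.mul_apply, tv_apply, Pi.add_apply, Pi.single_eq_same, Pi.single_eq_of_ne hij,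
        Pi.single_eq_of_ne hij.symm, LinearMap.id_apply, LinearMap.neg_apply] <;> abel
  have e : tv hij.symm A = w * tv hij (-A) * w⁻¹ := by
    rw [eq_mul_inv_iff_mul_eq]
    refine LinearEquiv.ext fun v => funext fun k => ?_
    rcases hall k with rfl | rfl
    · simp only [LinearEquiv.mul_apply, tv_apply_ne hij.symm hij, (hwv _).1, tv_apply_ne hij hij.symm]
    · simp only [LinearEquiv.mul_apply, tv_apply_self, (hwv _).2, (hwv _).1, LinearMap.neg_apply]
      abel
  rw [mem_Mij, e]
  exact mul_mem (mul_mem hw (show tv hij (-A) ∈ X from neg_mem hA)) (inv_mem hw)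

theorem pair_step {i j a b : Fin m} (hij : i ≠ j) (hab : a ≠ b) {A : E →ₗ[F] E} (hA : A ∈ Mij X hij) :
    A ∈ Mij X hab := by
  by_cases hbi : b = i
  · subst hbi
    by_cases h3 : ∃ k, k ≠ b ∧ k ≠ a
    · obtain ⟨k, hk1, hk2⟩ := h3
      exact column_step p hN hk2.symm hab (row_step p hN hk1.symm hk2.symm (column_step p hN hij hk1.symm hA))
    · push Not at h3
      have hja : j = a := h3 j hij.symm
      subst hja
      exact swap_step p hN hij (fun k => or_iff_not_imp_left.mpr fun h => h3 k h) hA
  · exact row_step p hN (Ne.symm hbi) hab (column_step p hN hij (Ne.symm hbi) hA)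

theorem isBimod_of_three {i j : Fin m} (hij : i ≠ j) (h3 : ∃ k, k ≠ i ∧ k ≠ j) : IsBimod (Mij X hij) := by
  obtain ⟨k, hki, hkj⟩ := h3
  exact ⟨fun c A hA => comp_mem_Mij p hN hki.symm hkj hij (mulE_mem_Mij p hN hki.symm c) (pair_step p hN hij hkj hA),
    fun c A hA => comp_mem_Mij p hN hki.symm hkj hij (pair_step p hN hij hki.symm hA) (mulE_mem_Mij p hN hkj c)⟩

theorem Mij_comp_of_three {i j : Fin m} (hij : i ≠ j) (h3 : ∃ k, k ≠ i ∧ k ≠ j) {A B : E →ₗ[F] E}
    (hA : A ∈ Mij X hij) (hB : B ∈ Mij X hij) : A.comp B ∈ Mij X hij := by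
  obtain ⟨k, hki, hkj⟩ := h3
  exact comp_mem_Mij p hN hki.symm hkj hij (pair_step p hN hij hki.symm hA) (pair_step p hN hij hkj hB)

omit p hN

/-- A subring containing all elements of norm one is everything. -/
theorem subring_eq_top {r : ℕ} (hr : Module.finrank F E = r) (hr2 : 2 ≤ r) (S : Subring E)
    (hS : ∀ a : E, Algebra.norm F a = 1 → a ∈ S) (c : E) : c ∈ S := by
  classical
  haveI := finiteDimensional (F := F) (E := E)
  haveI : Finite F := Finite.of_injective _ (algebraMap F E).injective
  letI : Field S := (Finite.isDomain_to_isField S).toField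
  have hEQ : Nat.card E = Nat.card F ^ r := by rw [← hr]; exact Module.natCard_eq_pow_finrank
  have hES : Nat.card E = Nat.card S ^ Module.finrank S E := Module.natCard_eq_pow_finrank
  by_cases hk : Module.finrank S E ≤ 1
  · have hle : Nat.card E ≤ Nat.card S := hES ▸ by
      calc Nat.card S ^ Module.finrank S E ≤ Nat.card S ^ 1 := Nat.pow_le_pow_right Nat.card_pos hk
        _ = Nat.card S := pow_one _
    have hbij : Function.Bijective (Subtype.val : S → E) :=
      Subtype.val_injective.bijective_of_nat_card_le hle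
    obtain ⟨s, rfl⟩ := hbij.2 c
    exact s.2
  exfalso
  have hq : 2 ≤ Nat.card F := Finite.one_lt_card
  have hL : 2 ≤ Nat.card S := Finite.one_lt_card
  have hL2 : Nat.card S ^ 2 ≤ Nat.card E := hES ▸ Nat.pow_le_pow_right Nat.card_pos (by omega)
  have hQ2 : Nat.card F ^ 2 ≤ Nat.card E := hEQ ▸ Nat.pow_le_pow_right Nat.card_pos hr2
  let f : Eˣ →* Fˣ := Units.map (Algebra.norm F : E →* F)
  have hcard : Nat.card Eˣ ≤ Nat.card f.ker * Nat.card Fˣ := by
    rw [← f.ker.card_mul_index]
    refine Nat.mul_le_mul_left _ ?_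
    rw [Subgroup.index_ker]
    exact Subgroup.card_le_card_group _
  have hker : Nat.card f.ker + 1 ≤ Nat.card S := by
    rw [← Finite.card_option]
    refine Nat.card_le_card_of_injective (fun o => match o with
      | none => (0 : S)
      | some a => ⟨((a : Eˣ) : E), hS _ (congrArg Units.val a.2)⟩) ?_
    rintro (_ | a) (_ | b) h
    · rfl
    · exact absurd (congrArg Subtype.val h).symm (b : Eˣ).ne_zero
    · exact absurd (congrArg Subtype.val h) (a : Eˣ).ne_zero
    · exact congrArg some (Subtype.ext (Units.ext (congrArg Subtype.val h :)))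
  rw [Nat.card_units, Nat.card_units] at hcard
  generalize Nat.card f.ker = θ at hcard hker
  generalize Nat.card E = Q at *
  generalize Nat.card S = L at *
  generalize Nat.card F = q at *
  obtain ⟨l, rfl⟩ : ∃ l, L = l + 1 := ⟨L - 1, by omega⟩
  obtain ⟨u, rfl⟩ : ∃ u, q = u + 1 := ⟨q - 1, by omega⟩
  have h1 : θ * u ≤ l * u := Nat.mul_le_mul_right _ (by omega)
  have hQ : Q ≤ l * u + 1 := by simp only [Nat.add_sub_cancel] at hcard; omega
  nlinarith [sq_nonneg ((l : ℤ) - u)]

include p hN

theorem isBimod_of_two {r : ℕ} (hr : Module.finrank F E = r) (hr2 : 2 ≤ r) {i j : Fin m} (hij : i ≠ j) :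
    IsBimod (Mij X hij) := by
  classical
  have hdg : ∀ (a : Eˣ) (k : Fin m), Algebra.norm F (a : E) = 1 →
      dg (F := F) (fun l => if l = k then a else 1) ∈ X := fun a k ha => by
    refine hN _ (semi_of_lin (dg_mem_Lin _)) (Units.ext ?_)
    rw [dg_det, Units.val_one, Finset.prod_eq_single k (fun l _ hl => by rw [if_neg hl, Units.val_one, map_one])
      (by simp), if_pos rfl, ha]
  have hne : ∀ a : E, Algebra.norm F a = 1 → a ≠ 0 := fun a ha e => by
    rw [e, Algebra.norm_zero] at ha; exact zero_ne_one ha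
  let SL : Subring E :=
    { carrier := {c | ∀ A ∈ Mij X hij, (mulE c).comp A ∈ Mij X hij}
      zero_mem' := fun A _ => by
        have e : (mulE (F := F) (0 : E)).comp A = 0 := LinearMap.ext fun x => by simp [mulE_apply]
        rw [e]; exact zero_mem _
      one_mem' := fun A hA => by
        have e : (mulE (F := F) (1 : E)).comp A = A := LinearMap.ext fun x => by simp [mulE_apply]
        rw [e]; exact hA
      add_mem' := fun {a b} ha hb A hA => by
        have e : (mulE (F := F) (a + b)).comp A = (mulE a).comp A + (mulE b).comp A :=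
          LinearMap.ext fun x => by simp [mulE_apply, add_mul]
        rw [e]; exact add_mem (ha A hA) (hb A hA)
      neg_mem' := fun {a} ha A hA => by
        have e : (mulE (F := F) (-a)).comp A = -((mulE a).comp A) := LinearMap.ext fun x => by simp [mulE_apply]
        rw [e]; exact neg_mem (ha A hA)
      mul_mem' := fun {a b} ha hb A hA => by
        have e : (mulE (F := F) (a * b)).comp A = (mulE a).comp ((mulE b).comp A) :=
          LinearMap.ext fun x => by simp [mulE_apply, mul_assoc]
        rw [e]; exact ha _ (hb A hA) }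
  let SR : Subring E :=
    { carrier := {c | ∀ A ∈ Mij X hij, A.comp (mulE c) ∈ Mij X hij}
      zero_mem' := fun A _ => by
        have e : A.comp (mulE (F := F) (0 : E)) = 0 := LinearMap.ext fun x => by simp [mulE_apply]
        rw [e]; exact zero_mem _
      one_mem' := fun A hA => by
        have e : A.comp (mulE (F := F) (1 : E)) = A := LinearMap.ext fun x => by simp [mulE_apply]
        rw [e]; exact hA
      add_mem' := fun {a b} ha hb A hA => by
        have e : A.comp (mulE (F := F) (a + b)) = A.comp (mulE a) + A.comp (mulE b) :=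
          LinearMap.ext fun x => by simp [mulE_apply, add_mul]
        rw [e]; exact add_mem (ha A hA) (hb A hA)
      neg_mem' := fun {a} ha A hA => by
        have e : A.comp (mulE (F := F) (-a)) = -(A.comp (mulE a)) := LinearMap.ext fun x => by simp [mulE_apply]
        rw [e]; exact neg_mem (ha A hA)
      mul_mem' := fun {a b} ha hb A hA => by
        have e : A.comp (mulE (F := F) (a * b)) = (A.comp (mulE a)).comp (mulE b) :=
          LinearMap.ext fun x => by simp [mulE_apply, mul_assoc]
        rw [e]; exact hb _ (ha A hA) }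
  constructor
  · intro c A hA
    refine subring_eq_top hr hr2 SL (fun a ha B hB => ?_) c A hA
    have h := mul_mem (mul_mem (hdg (Units.mk0 a (hne a ha)) i ha) hB) (inv_mem (hdg (Units.mk0 a (hne a ha)) i ha))
    rw [dg_conj, if_pos rfl, if_neg hij.symm, inv_one, Units.val_mk0] at h
    have e : (mulE (F := F) a).comp (B.comp (mulE ((1 : Eˣ) : E))) = (mulE a).comp B :=
      LinearMap.ext fun x => by simp [mulE_apply]
    rw [e] at h
    exact h
  · intro c A hA
    refine subring_eq_top hr hr2 SR (fun a ha B hB => ?_) c A hA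
    have hainv : Algebra.norm F ((Units.mk0 a (hne a ha))⁻¹ : Eˣ).val = 1 := by
      rw [Units.val_inv_eq_inv_val, Units.val_mk0, Algebra.norm_inv, ha, inv_one]
    have h := mul_mem (mul_mem (hdg (Units.mk0 a (hne a ha))⁻¹ j hainv) hB) (inv_mem (hdg (Units.mk0 a (hne a ha))⁻¹ j hainv))
    rw [dg_conj, if_pos rfl, if_neg hij, inv_inv, Units.val_mk0] at h
    have e : (mulE (F := F) ((1 : Eˣ) : E)).comp (B.comp (mulE a)) = B.comp (mulE a) :=
      LinearMap.ext fun x => by simp [mulE_apply]
    rw [e] at h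
    exact h

theorem isBimod {r : ℕ} (hr : Module.finrank F E = r) (hr2 : 2 ≤ r) {i j : Fin m} (hij : i ≠ j) :
    IsBimod (Mij X hij) := isBimod_of_two p hN hr hr2 hij

omit p hN

/-- If every block is full then every element of determinant one is present. -/
theorem det_ker_le (hm : 2 ≤ m) (hfull : ∀ (i j : Fin m) (h : i ≠ j), Mij X h = ⊤) :
    ∀ g : GG F E m, LinearEquiv.det g = 1 → g ∈ X := by
  classical
  haveI := finiteDimensional (F := F) (E := E)
  let bE := Module.finBasis F E
  let B := Pi.basis (fun _ : Fin m => bE)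
  let ι := (Σ _ : Fin m, Fin (Module.finrank F E))
  let φ : GG F E m ≃* GL ι F :=
    (LinearMap.GeneralLinearGroup.generalLinearEquiv F (Fin m → E)).symm.trans
      (Units.mapEquiv (LinearMap.toMatrixAlgEquiv B).toMulEquiv)
  have hφ : ∀ g, ((φ g : GL ι F) : Matrix ι ι F) = LinearMap.toMatrix B B g.toLinearMap := fun g => rfl
  have hpos : 0 < Module.finrank F E := Module.finrank_pos
  haveI : Nontrivial ι := ⟨⟨⟨0, by omega⟩, ⟨0, hpos⟩⟩, ⟨⟨1, by omega⟩, ⟨0, hpos⟩⟩,
    fun e => absurd (congrArg Sigma.fst e) (by simp [Fin.ext_iff])⟩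
  have hSL : Cfsg.Geo.specialLinear ι F ≤ X.map φ.toMonoidHom := by
    rw [specialLinear_le_iff]
    rintro ⟨a, s⟩ ⟨b, t⟩ hne c
    have hmem : ∀ (a' b' : Fin m) (h : a' ≠ b') (A : E →ₗ[F] E), tv h A ∈ X := fun a' b' h A => by
      rw [← mem_Mij, hfull a' b' h]; trivial
    let el : Fin (Module.finrank F E) → Fin (Module.finrank F E) → F → E →ₗ[F] E :=
      fun s' t' c' => (LinearMap.toSpanSingleton F E (c' • bE s')).comp (bE.coord t')
    have hel : ∀ s' t' c' x, el s' t' c' x = bE.coord t' x • c' • bE s' := fun _ _ _ _ => rfl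
    obtain ⟨T, hT, hTv⟩ : ∃ T ∈ X, ∀ v, T v = v + Pi.single a (el s t c (v b)) := by
      by_cases hab : a = b
      · subst hab
        have hst : s ≠ t := fun e => hne (by rw [e])
        obtain ⟨k, hk⟩ : ∃ k : Fin m, k ≠ a := by
          haveI : Nontrivial (Fin m) := Fin.nontrivial_iff_two_le.mpr hm
          exact exists_ne a
        let A : E →ₗ[F] E := el s s 1
        let A' : E →ₗ[F] E := el s t c
        have h1 : ∀ x, A' (A x) = 0 := fun x => by
          simp [A, A', hel, Module.Basis.coord_apply, Finsupp.single_eq_of_ne hst.symm]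
        have h2 : ∀ x, A (A' x) = el s t c x := fun x => by
          simp [A, A', hel, Module.Basis.coord_apply, smul_smul]
        have h3 : ∀ x, el s t c (el s t c x) = 0 := fun x => by
          simp [hel, Module.Basis.coord_apply, Finsupp.single_eq_of_ne hst.symm]
        refine ⟨tv hk.symm A * tv hk A' * (tv hk.symm A)⁻¹ * (tv hk A')⁻¹,
          mul_mem (mul_mem (mul_mem (hmem _ _ _ _) (hmem _ _ _ _)) (inv_mem (hmem _ _ _ _))) (inv_mem (hmem _ _ _ _)),
          fun v => funext fun l => ?_⟩
        simp only [LinearEquiv.mul_apply, tv_inv, tv_apply, Pi.add_apply, LinearMap.neg_apply]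
        by_cases hla : l = a
        · subst hla
          simp [hk, hk.symm, h1, h2, h3, map_add]; abel
        · by_cases hlk : l = k
          · subst hlk
            simp [hla, hk.symm, h1, h2, h3, map_add, A']
          · simp [hla, hlk]
      · exact ⟨tv hab (el s t c), hmem _ _ _ _, fun v => rfl⟩
    refine ⟨T, hT, Units.ext ?_⟩
    have hcoe : (φ.toMonoidHom T : GL ι F) = φ T := rfl
    rw [hcoe, hφ, transGL_coe]
    ext ⟨a', s'⟩ ⟨b', t'⟩
    rw [LinearMap.toMatrix_apply, LinearEquiv.coe_coe, hTv]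
    have hB : B ⟨b', t'⟩ = Pi.single b' (bE t') := Pi.basis_apply _ _
    rw [hB, map_add, Finsupp.add_apply, ← hB, Module.Basis.repr_self, hB, Pi.basis_repr, hel,
      Module.Basis.coord_apply]
    rw [Matrix.transvection, Matrix.add_apply, Matrix.one_apply, Matrix.single_apply, Finsupp.single_apply]
    congr 1
    · exact if_congr eq_comm rfl rfl
    · have key : (⟨a, s⟩ : ι) = ⟨a', s'⟩ ↔ a = a' ∧ s = s' :=
        ⟨fun e => by cases e; exact ⟨rfl, rfl⟩, fun ⟨e1, e2⟩ => by subst e1; subst e2; rfl⟩
      have key' : (⟨b, t⟩ : ι) = ⟨b', t'⟩ ↔ b = b' ∧ t = t' :=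
        ⟨fun e => by cases e; exact ⟨rfl, rfl⟩, fun ⟨e1, e2⟩ => by subst e1; subst e2; rfl⟩
      by_cases ha : a' = a
      · subst ha
        by_cases hb : b' = b
        · subst hb
          by_cases ht : t' = t
          · subst ht
            by_cases hs : s' = s
            · subst hs; simp
            · simp [hs, Ne.symm hs, key, key']
          · simp [ht, Ne.symm ht, key, key']
        · simp [hb, Ne.symm hb, key, key']
      · simp [ha, Ne.symm ha, key, key']
  intro g hg
  have hmem : φ g ∈ Cfsg.Geo.specialLinear ι F := mem_specialLinear_iff.mpr (by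
    rw [hφ, LinearMap.det_toMatrix, ← LinearEquiv.coe_det, hg, Units.val_one])
  obtain ⟨y, hy, e⟩ := hSL hmem
  exact φ.injective e ▸ hy

end Cfsg.Agent.Classical.FieldExt
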