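/-
An element moving a line off the spread forces an orbit of size divisible by `q`.
-/
import Cfsg.Agent.Lib.Classical.FieldExt.Blocks

set_option autoImplicit false
set_option linter.style.haveILetI false
set_option linter.unusedSectionVars false

namespace Cfsg.Agent.Classical.FieldExt

variable {F E : Type*} [Field F] [Field E] [Algebra F E] [Finite E] {m : ℕ}

/-- The stabiliser of a vector. -/
def stab (v : Fin m → E) : Subgroup (GG F E m) := MulAction.stabilizer (GG F E m) v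

theorem mem_stab {v : Fin m → E} {g : GG F E m} : g ∈ stab (F := F) v ↔ g v = v := Iff.rfl

theorem semi_of_lines (hm : 2 ≤ m) {g : GG F E m} (h : ∀ (c : E) (v : Fin m → E), ∃ d : E, g (c • v) = d • g v) :
    Semi g := by
  classical
  haveI : Nontrivial (Fin m) := Fin.nontrivial_iff_two_le.mpr hm
  choose τ hτ using h
  have hinj : ∀ v, v ≠ 0 → Function.Surjective fun c => τ c v := fun v hv =>
    Finite.surjective_of_injective fun c c' e => by
      have h' : g (c • v) = g (c' • v) := by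
        rw [hτ, hτ]
        exact congrArg (· • g v) e
      exact smul_left_injective E hv (g.injective h')
  have hind : ∀ v w, v ≠ 0 → (∀ a : E, w ≠ a • v) → ∀ d : E, g w ≠ d • g v := fun v w hv hw d e => by
    obtain ⟨c, hc : τ c v = d⟩ := hinj v hv d
    rw [← hc, ← hτ] at e
    exact hw c (g.injective e)
  have hone : ∀ v w, v ≠ 0 → (∀ a : E, w ≠ a • v) → ∀ c, τ c w = τ c v := fun v w hv hw c => by
    have e : g (c • (v + w)) = τ c v • g v + τ c w • g w := by rw [smul_add, map_add, hτ, hτ]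
    rw [hτ, map_add, smul_add] at e
    have e' : (τ c (v + w) - τ c w) • g w = (τ c v - τ c (v + w)) • g v := by
      rw [sub_smul, sub_smul, sub_eq_sub_iff_add_eq_add, add_comm, e]
    have h1 : τ c (v + w) = τ c w := by
      by_contra hne
      refine hind v w hv hw ((τ c (v + w) - τ c w)⁻¹ * (τ c v - τ c (v + w))) ?_
      rw [mul_smul, ← e', smul_smul, inv_mul_cancel₀ (sub_ne_zero.mpr hne), one_smul]
    rw [h1, sub_self, zero_smul] at e'
    rcases smul_eq_zero.mp e'.symm with h2 | h2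
    · exact (sub_eq_zero.mp h2).symm
    · exact absurd (g.map_eq_zero_iff.mp h2) hv
  obtain ⟨i⟩ : Nonempty (Fin m) := inferInstance
  obtain ⟨j, hj⟩ := exists_ne i
  refine ⟨fun c => τ c (Pi.single i 1), fun c v => ?_⟩
  by_cases hv : v = 0
  · simp [hv]
  have hs : (Pi.single i 1 : Fin m → E) ≠ 0 := by simp
  by_cases hw : ∀ a : E, v ≠ a • (Pi.single i 1 : Fin m → E)
  · rw [hτ, hone _ _ hs hw]
  push Not at hw
  obtain ⟨a, ha⟩ := hw
  have h1 : ∀ b : E, (Pi.single j 1 : Fin m → E) ≠ b • (Pi.single i 1 : Fin m → E) := fun b e => by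
    simpa [hj, Pi.single_eq_of_ne hj] using congrFun e j
  have h2 : ∀ b : E, (Pi.single j 1 : Fin m → E) ≠ b • v := fun b e => h1 (b * a) (by rw [mul_smul, ← ha]; exact e)
  rw [hτ]
  congr 1
  rw [← hone v _ hv h2, hone _ _ hs h1]

variable (p : ℕ) [Fact p.Prime] [CharP F p] {X : Subgroup (GG F E m)}
  (hN : ∀ g : GG F E m, Semi g → LinearEquiv.det g = 1 → g ∈ X)

include p hN

theorem exists_move (hm : 2 ≤ m) (i₀ : Fin m) {v : Fin m → E} (hv : v ≠ 0) :
    ∃ k ∈ X, k ∈ Lin F E m ∧ k v = Pi.single i₀ 1 := by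
  classical
  haveI : Nontrivial (Fin m) := Fin.nontrivial_iff_two_le.mpr hm
  have hcol : ∀ (u : Fin m → E), u i₀ = 1 → ∃ k ∈ X, k ∈ Lin F E m ∧ k u = Pi.single i₀ 1 := fun u hu => by
    have hc : ((Pi.single i₀ 1 : Fin m → E) - u) i₀ = 0 := by simp [hu]
    exact ⟨col i₀ _ hc, hN _ (semi_of_lin (col_mem_Lin _ _ hc)) (col_det p _ _ hc), col_mem_Lin _ _ hc, by
      rw [col_apply, hu, one_smul]; abel⟩
  have hfix : ∀ (u : Fin m → E) j, j ≠ i₀ → u j ≠ 0 → ∃ k ∈ X, k ∈ Lin F E m ∧ k u = Pi.single i₀ 1 :=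
    fun u j hj hu => by
    obtain ⟨k, hk, hkl, hku⟩ := hcol (tv (F := F) hj.symm (mulE ((1 - u i₀) * (u j)⁻¹)) u) (by
      rw [tv_apply_self, mulE_apply, mul_assoc, inv_mul_cancel₀ hu, mul_one]; ring)
    exact ⟨k * tv hj.symm (mulE _), mul_mem hk (tvE_mem p hN _ (isMul_mulE _)),
      mul_mem hkl (tv_mem_Lin _ (isMul_mulE _)), hku⟩
  by_cases hj : ∃ j, j ≠ i₀ ∧ v j ≠ 0
  · obtain ⟨j, hj, hvj⟩ := hj
    exact hfix v j hj hvj
  push Not at hj
  have hvi : v i₀ ≠ 0 := fun e => hv (funext fun j => by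
    by_cases h : j = i₀
    · subst h; exact e
    · exact hj j h)
  obtain ⟨j, hji⟩ := exists_ne i₀
  obtain ⟨k, hk, hkl, hku⟩ := hfix (tv (F := F) hji (LinearMap.id) v) j hji (by
    rw [tv_apply_self, hj j hji, zero_add, LinearMap.id_apply]; exact hvi)
  exact ⟨k * tv hji LinearMap.id, mul_mem hk (tvE_mem p hN _ isMul_id), mul_mem hkl (tv_mem_Lin _ isMul_id), hku⟩

theorem exists_breaker (hm : 2 ≤ m) (i₀ : Fin m) (hns : ∃ g ∈ X, ¬ Semi g) :
    ∃ h ∈ X, h (Pi.single i₀ 1) = Pi.single i₀ 1 ∧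
      ∃ c : E, ∀ d : E, h (c • Pi.single i₀ 1) ≠ d • (Pi.single i₀ 1 : Fin m → E) := by
  obtain ⟨g, hg, hgs⟩ := hns
  obtain ⟨c, v, hcv⟩ : ∃ (c : E) (v : Fin m → E), ∀ d : E, g (c • v) ≠ d • g v := by
    by_contra hcon
    push Not at hcon
    exact hgs (semi_of_lines hm hcon)
  have hv : v ≠ 0 := fun e => hcv 0 (by simp [e])
  obtain ⟨k1, hk1, hk1l, hk1v⟩ := exists_move p hN hm i₀ hv
  obtain ⟨k2, hk2, hk2l, hk2v⟩ := exists_move p hN hm i₀ (v := g v) (fun e => hv (g.map_eq_zero_iff.mp e))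
  have hki : k1⁻¹ (Pi.single i₀ 1) = v := by rw [← hk1v]; exact k1.symm_apply_apply v
  refine ⟨k2 * g * k1⁻¹, mul_mem (mul_mem hk2 hg) (inv_mem hk1), ?_, c, fun d e => hcv d ?_⟩
  · rw [LinearEquiv.mul_apply, LinearEquiv.mul_apply, hki, hk2v]
  · rw [LinearEquiv.mul_apply, LinearEquiv.mul_apply, (inv_mem hk1l : k1⁻¹ ∈ Lin F E m) c, hki, ← hk2v,
      ← (hk2l d)] at e
    exact k2.injective e

theorem orbit_step (hm : 2 ≤ m) (i₀ : Fin m) (hns : ∃ g ∈ X, ¬ Semi g) :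
    ∃ (w₀ w₁ : Fin m → E) (δ : GG F E m), δ ∈ X ∧ δ (Pi.single i₀ 1) = Pi.single i₀ 1 ∧ δ w₀ = w₁ ∧
      (∀ j, j ≠ i₀ → w₀ j = 0) ∧ (∃ j, j ≠ i₀ ∧ w₁ j ≠ 0) ∧
      Nat.card F * Nat.card (X ⊓ stab (Pi.single i₀ 1) ⊓ stab w₀ : Subgroup (GG F E m)) ∣ Nat.card X := by
  classical
  haveI : Finite F := Finite.of_injective _ (algebraMap F E).injective
  obtain ⟨δ, hδ, hδ0, c, hc⟩ := exists_breaker p hN hm i₀ hns
  set e0 : Fin m → E := Pi.single i₀ 1 with he0
  have hj0 : ∃ j, j ≠ i₀ ∧ δ (c • e0) j ≠ 0 := by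
    by_contra hcon
    push Not at hcon
    refine hc (δ (c • e0) i₀) (funext fun j => ?_)
    by_cases h : j = i₀
    · subst h; simp [he0]
    · rw [hcon j h]; simp [he0, Pi.single_eq_of_ne h]
  obtain ⟨w₁, hw1⟩ : ∃ w, w = δ (c • e0) := ⟨_, rfl⟩
  rw [← hw1] at hj0
  refine ⟨c • e0, w₁, δ, hδ, hδ0, hw1.symm, fun j hj => by simp [he0, Pi.single_eq_of_ne hj], hj0, ?_⟩
  set Γ : Subgroup (GG F E m) := X ⊓ stab e0 with hΓ
  let O : Set (Fin m → E) := MulAction.orbit Γ (c • e0)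
  have htr : ∀ y ∈ O, ∀ a : F, y + a • e0 ∈ O := by
    rintro y ⟨γ, rfl⟩ a
    obtain ⟨j, hj, hwj⟩ := hj0
    let T : GG F E m := tv hj.symm (mulE (algebraMap F E a * (w₁ j)⁻¹))
    have hT0 : T e0 = e0 := by simp [T, tv_apply, he0, Pi.single_eq_of_ne hj, mulE_apply]
    have hTw : T w₁ = w₁ + a • e0 := by
      simp only [T, tv_apply, mulE_apply, mul_assoc, inv_mul_cancel₀ hwj, mul_one, he0]
      rw [← Pi.single_smul, Algebra.smul_def, mul_one]
    have hTX : T ∈ Γ := ⟨tvE_mem p hN _ (isMul_mulE _), mem_stab.mpr hT0⟩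
    have hδΓ : δ ∈ Γ := ⟨hδ, mem_stab.mpr hδ0⟩
    refine ⟨γ * ⟨δ, hδΓ⟩⁻¹ * ⟨T, hTX⟩ * ⟨δ, hδΓ⟩, ?_⟩
    change ((γ : GG F E m) * δ⁻¹ * T * δ) (c • e0) = (γ : GG F E m) (c • e0) + a • e0
    simp only [LinearEquiv.mul_apply, ← hw1, hTw, map_add, map_smul]
    have e1 : δ⁻¹ w₁ = c • e0 := by rw [hw1]; exact δ.symm_apply_apply _
    have e2 : δ⁻¹ e0 = e0 := by conv_lhs => rw [← hδ0]; exact (δ.symm_apply_apply e0)
    rw [e1, e2, mem_stab.mp γ.2.2]
  have hdiv : Nat.card F ∣ Nat.card O := by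
    let L : AddSubgroup (Fin m → E) := (Submodule.span F {e0}).toAddSubgroup
    have hpre : O = QuotientAddGroup.mk ⁻¹' (QuotientAddGroup.mk (s := L) '' O) := by
      ext y
      refine ⟨fun hy => ⟨y, hy, rfl⟩, fun ⟨z, hz, e⟩ => ?_⟩
      obtain ⟨a, ha⟩ := Submodule.mem_span_singleton.mp (QuotientAddGroup.eq.mp e)
      have := htr z hz a
      rwa [ha, add_neg_cancel_left] at this
    rw [hpre, Nat.card_congr (QuotientAddGroup.preimageMkEquivAddSubgroupProdSet L _), Nat.card_prod]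
    refine Dvd.dvd.mul_right ?_ _
    have e : Nat.card (Submodule.span F {e0}) = Nat.card F :=
      (Nat.card_congr (LinearEquiv.toSpanNonzeroSingleton F _ e0 (by simp [he0])).toEquiv).symm
    exact e.symm.dvd
  have horb : Nat.card O * Nat.card (MulAction.stabilizer Γ (c • e0)) = Nat.card Γ := by
    rw [← Nat.card_prod]
    exact Nat.card_congr (MulAction.orbitProdStabilizerEquivGroup Γ (c • e0))
  have hst : Nat.card (MulAction.stabilizer Γ (c • e0)) = Nat.card (Γ ⊓ stab (c • e0) : Subgroup (GG F E m)) :=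
    Nat.card_congr
      { toFun := fun g => ⟨(g.1 : GG F E m), g.1.2, g.2⟩
        invFun := fun g => ⟨⟨g.1, g.2.1⟩, g.2.2⟩
        left_inv := fun g => rfl
        right_inv := fun g => rfl }
  have h2 : Nat.card Γ ∣ Nat.card X := Subgroup.card_dvd_of_le inf_le_left
  refine dvd_trans ?_ h2
  rw [← horb, hst]
  exact mul_dvd_mul hdiv dvd_rfl

end Cfsg.Agent.Classical.FieldExt
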