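/-
The normaliser of a unipotent core, and the bound it gives for `p`-subgroups.
-/
import Cfsg.Agent.Lib.Classical.FieldExt.Orbit

set_option autoImplicit false
set_option linter.style.haveILetI false
set_option linter.unusedSectionVars false

namespace Cfsg.Agent.Classical.FieldExt

variable {F E : Type*} [Field F] [Field E] [Algebra F E] [Finite E] {m : ℕ}

/-- A unipotent subgroup large enough to see the flag, with the blocks next to the diagonal in `M`. -/
structure Core (X : Subgroup (GG F E m)) (M : AddSubgroup (E →ₗ[F] E)) (U : Subgroup (GG F E m)) : Prop where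
  bimod : IsBimod M
  id_mem : LinearMap.id ∈ M
  ne_top : M ≠ ⊤
  le_X : U ≤ X
  le_BU : U ≤ BU F E m
  root : ∀ (i j : Fin m) (h : i < j) (A : E →ₗ[F] E), IsMul A → tv h.ne A ∈ U
  adj : ∀ (i j : Fin m) (h : i ≠ j), (j : ℕ) = i + 1 → ∀ A ∈ M, tv h A ∈ U
  entry : ∀ g ∈ U, ∀ i j : Fin m, (j : ℕ) = i + 1 → ∃ A ∈ M, ∀ x : E, g (Pi.single j x) i = A x
  closed : ∀ g ∈ X, g ∈ BU F E m → (∀ u ∈ U, g * u * g⁻¹ ∈ U) → g ∈ U

/-- Preservation of the standard flag. -/
def Pres (g : GG F E m) : Prop :=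
  ∀ (i : ℕ) (v : Fin m → E), (∀ j : Fin m, i ≤ (j : ℕ) → v j = 0) → ∀ j : Fin m, i ≤ (j : ℕ) → g v j = 0

/-- Diagonal block. -/
def dBlock (g : GG F E m) (i : Fin m) : E →ₗ[F] E :=
  (LinearMap.proj i).comp (g.toLinearMap.comp (LinearMap.single F (fun _ : Fin m => E) i))

theorem dBlock_apply (g : GG F E m) (i : Fin m) (x : E) : dBlock g i x = g (Pi.single i x) i := rfl

theorem Pres.apply_top {g : GG F E m} (hg : Pres g) {v : Fin m → E} {i : Fin m} (hv : ∀ j, i < j → v j = 0) :
    g v i = dBlock g i (v i) := by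
  have h0 : g (v - Pi.single i (v i)) i = 0 := hg i _ (fun j hj => by
    rcases lt_or_eq_of_le hj with h | h
    · have hij : i < j := h
      rw [Pi.sub_apply, hv j hij, Pi.single_eq_of_ne hij.ne', sub_zero]
    · obtain rfl : i = j := Fin.ext h
      rw [Pi.sub_apply, Pi.single_eq_same, sub_self]) i le_rfl
  rw [map_sub, Pi.sub_apply, sub_eq_zero] at h0
  rw [h0, dBlock_apply]

theorem Pres.dBlock_mul {g h : GG F E m} (hg : Pres g) (hh : Pres h) (i : Fin m) :
    dBlock (g * h) i = (dBlock g i).comp (dBlock h i) := LinearMap.ext fun x => by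
  rw [dBlock_apply, LinearEquiv.mul_apply, LinearMap.comp_apply, dBlock_apply h]
  exact hg.apply_top fun j hj => hh (i + 1) _ (fun k hk => Pi.single_eq_of_ne (fun e => by subst e; omega) _) j hj

theorem dBlock_one (i : Fin m) : dBlock (1 : GG F E m) i = LinearMap.id :=
  LinearMap.ext fun x => by rw [dBlock_apply]; simp

variable {X : Subgroup (GG F E m)} {M : AddSubgroup (E →ₗ[F] E)} {U : Subgroup (GG F E m)}

/-- The elements of `X` normalising `U`. -/
def NU (X U : Subgroup (GG F E m)) : Subgroup (GG F E m) :=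
  subgroupOfFinite {g | g ∈ X ∧ ∀ u ∈ U, g * u * g⁻¹ ∈ U}
    ⟨one_mem X, fun u hu => by simpa using hu⟩
    (fun a ha b hb => ⟨mul_mem ha.1 hb.1, fun u hu => by
      have h := ha.2 _ (hb.2 u hu)
      rwa [show a * (b * u * b⁻¹) * a⁻¹ = a * b * u * (a * b)⁻¹ by group] at h⟩)

theorem mem_NU {g : GG F E m} : g ∈ NU X U ↔ g ∈ X ∧ ∀ u ∈ U, g * u * g⁻¹ ∈ U := Iff.rfl

theorem conj_inv_mem {g u : GG F E m} (hg : g ∈ NU X U) (hu : u ∈ U) : g⁻¹ * u * g ∈ U := by
  have h := (inv_mem hg : g⁻¹ ∈ NU X U).2 u hu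
  rwa [inv_inv] at h

namespace Core

variable (hU : Core X M U)

include hU

theorem pres {g : GG F E m} (hg : g ∈ NU X U) : Pres g := by
  intro i
  induction i with
  | zero =>
    intro v hv j _
    rw [show v = 0 from funext fun k => hv k (Nat.zero_le _), map_zero, Pi.zero_apply]
  | succ i ih =>
    intro v hv j hj
    have hlt : (j : ℕ) - 1 < m := by have := j.isLt; omega
    let k : Fin m := ⟨(j : ℕ) - 1, hlt⟩
    have hkj : k < j := Fin.lt_def.mpr (show (j : ℕ) - 1 < j by omega)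
    let u := tv (F := F) hkj.ne (LinearMap.id : E →ₗ[F] E)
    have hu : u ∈ U := hU.root k j hkj _ isMul_id
    have hu' := hU.le_BU (conj_inv_mem hg hu)
    have hd : ∀ l : Fin m, i ≤ (l : ℕ) → ((g⁻¹ * u * g) v - v) l = 0 := fun l hl => by
      rw [Pi.sub_apply, sub_eq_zero]
      exact hu' v l fun l' hl' => hv l' (by have : (l : ℕ) < l' := hl'; omega)
    have h := ih _ hd k (show i ≤ (j : ℕ) - 1 by omega)
    have e : g ((g⁻¹ * u * g) v - v) = u (g v) - g v := by
      rw [map_sub, ← LinearEquiv.mul_apply, ← mul_assoc, ← mul_assoc, mul_inv_cancel, one_mul, LinearEquiv.mul_apply]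
    rw [e, Pi.sub_apply, tv_apply_self, add_sub_cancel_left] at h
    exact h

theorem dBlock_inv {g : GG F E m} (hg : g ∈ NU X U) (i : Fin m) (x : E) :
    dBlock g⁻¹ i (dBlock g i x) = x := by
  rw [← LinearMap.comp_apply, ← (hU.pres (inv_mem hg)).dBlock_mul (hU.pres hg), inv_mul_cancel, dBlock_one]
  rfl

theorem dBlock_ne {g : GG F E m} (hg : g ∈ NU X U) (i : Fin m) {x : E} (hx : x ≠ 0) : dBlock g i x ≠ 0 :=
  fun e => hx (by rw [← hU.dBlock_inv hg i x, e, map_zero])

theorem push {g : GG F E m} (hg : g ∈ NU X U) {i j : Fin m} (hij : (j : ℕ) = i + 1) {A : E →ₗ[F] E} (hA : A ∈ M) :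
    ∃ A' ∈ M, ∀ x, dBlock g i (A x) = A' (dBlock g j x) := by
  have hne : i ≠ j := fun e => by subst e; omega
  let u := tv (F := F) hne A
  have hu : u ∈ U := hU.adj i j hne hij A hA
  obtain ⟨A', hA', hent⟩ := hU.entry _ (hg.2 u hu) i j hij
  refine ⟨A', hA', fun x => ?_⟩
  let y := g (Pi.single j x)
  have h1 : (g * u * g⁻¹) y i = y i + dBlock g i (A x) := by
    have e : g⁻¹ y = Pi.single j x := g.symm_apply_apply _
    rw [LinearEquiv.mul_apply, LinearEquiv.mul_apply, e]
    simp only [u, tv_apply, Pi.single_eq_same, map_add, Pi.add_apply, dBlock_apply, y]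
  have hy : ∀ k : Fin m, j < k → y k = 0 := fun k hk =>
    hU.pres hg ((j : ℕ) + 1) _ (fun l hl => Pi.single_eq_of_ne (fun e => by subst e; omega) _) k hk
  have h2 : (g * u * g⁻¹) (y - Pi.single j (y j)) i = y i := by
    rw [hU.le_BU (hg.2 u hu) _ i fun k hk => ?_, Pi.sub_apply, Pi.single_eq_of_ne hne, sub_zero]
    by_cases hkj : k = j
    · subst hkj; rw [Pi.sub_apply, Pi.single_eq_same, sub_self]
    · have hjk : j < k := by
        have h1 : (i : ℕ) < k := hk
        have h2 : (k : ℕ) ≠ j := fun e => hkj (Fin.ext e)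
        exact Fin.lt_def.mpr (by omega)
      rw [Pi.sub_apply, hy k hjk, Pi.single_eq_of_ne hkj, sub_zero]
  rw [map_sub, Pi.sub_apply, h1, hent, sub_eq_iff_eq_add] at h2
  have h3 : y j = dBlock g j x := rfl
  rw [h3] at h2
  exact add_left_cancel h2

theorem pull {g : GG F E m} (hg : g ∈ NU X U) {i j : Fin m} (hij : (j : ℕ) = i + 1) {A' : E →ₗ[F] E} (hA : A' ∈ M) :
    ∃ A ∈ M, ∀ x, dBlock g i (A x) = A' (dBlock g j x) := by
  obtain ⟨A, hAM, h⟩ := hU.push (inv_mem hg) hij hA
  refine ⟨A, hAM, fun x => ?_⟩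
  have h' := h (dBlock g j x)
  rw [hU.dBlock_inv hg] at h'
  rw [← h']
  have e := hU.dBlock_inv (inv_mem hg) i (A' (dBlock g j x))
  rwa [inv_inv] at e

variable {r : ℕ} (hr : Module.finrank F E = r) (hp : r.Prime)

include hr hp

theorem block_semi (hm : 2 ≤ m) {g : GG F E m} (hg : g ∈ NU X U) (i : Fin m) :
    ∀ c : E, ∃ d : E, ∀ x, dBlock g i (c * x) = d * dBlock g i x := by
  intro c
  let L : E →ₗ[F] E := (dBlock g i).comp ((mulE c).comp (dBlock g⁻¹ i))
  have hL : ∀ x, L (dBlock g i x) = dBlock g i (c * x) := fun x => by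
    simp only [L, LinearMap.comp_apply, mulE_apply, hU.dBlock_inv hg]
  have hmul : IsMul L := by
    by_cases hlast : (i : ℕ) + 1 < m
    · refine isMul_of_left_ideal hr hp hU.bimod hU.id_mem hU.ne_top fun A' hA' => ?_
      obtain ⟨A, hA, hAe⟩ := hU.pull hg (i := i) (j := ⟨i + 1, hlast⟩) rfl hA'
      obtain ⟨B, hB, hBe⟩ := hU.push hg (i := i) (j := ⟨i + 1, hlast⟩) rfl (hU.bimod.left c A hA)
      have e : L.comp A' = B := LinearMap.ext fun y => by
        have hy : y = dBlock g ⟨i + 1, hlast⟩ (dBlock g⁻¹ ⟨i + 1, hlast⟩ y) := by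
          have e := hU.dBlock_inv (inv_mem hg) ⟨i + 1, hlast⟩ y
          rw [inv_inv] at e
          exact e.symm
        rw [hy, LinearMap.comp_apply, ← hAe, hL, ← hBe]
        rfl
      rw [e]; exact hB
    · refine isMul_of_right_ideal hr hp hU.bimod hU.id_mem hU.ne_top fun A' hA' => ?_
      have hpos : 1 ≤ (i : ℕ) := by have := i.isLt; omega
      let k : Fin m := ⟨(i : ℕ) - 1, by have := i.isLt; omega⟩
      have hki : (i : ℕ) = (k : ℕ) + 1 := by simp only [k]; omega
      obtain ⟨A, hA, hAe⟩ := hU.pull hg (i := k) (j := i) hki hA'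
      obtain ⟨B, hB, hBe⟩ := hU.push hg (i := k) (j := i) hki (hU.bimod.right c A hA)
      have e : A'.comp L = B := LinearMap.ext fun y => by
        have hy : y = dBlock g i (dBlock g⁻¹ i y) := by
          have e := hU.dBlock_inv (inv_mem hg) i y
          rw [inv_inv] at e
          exact e.symm
        rw [hy, LinearMap.comp_apply, hL, ← hAe, ← hBe]
        rfl
      rw [e]; exact hB
  exact ⟨L 1, fun x => by rw [← hL, hmul]⟩

theorem exists_tau_at (hm : 2 ≤ m) {g : GG F E m} (hg : g ∈ NU X U) (i : Fin m) :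
    ∃ τ : E ≃ₐ[F] E, ∀ c x, dBlock g i (c * x) = τ c * dBlock g i x := by
  choose t ht using hU.block_semi hr hp hm hg i
  have h1 : dBlock g i 1 ≠ 0 := hU.dBlock_ne hg i one_ne_zero
  have key : ∀ c, dBlock g i c = t c * dBlock g i 1 := fun c => by rw [← ht, mul_one]
  let τ : E →ₐ[F] E :=
    { toFun := t
      map_one' := mul_right_cancel₀ h1 (by rw [← key, one_mul])
      map_mul' := fun a b => mul_right_cancel₀ h1 (by rw [← key, ht, key b, mul_assoc])
      map_zero' := mul_right_cancel₀ h1 (by rw [← key, map_zero, zero_mul])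
      map_add' := fun a b => mul_right_cancel₀ h1 (by rw [← key, map_add, key a, key b, add_mul])
      commutes' := fun a => mul_right_cancel₀ h1 (by
        rw [← key, Algebra.algebraMap_eq_smul_one, map_smul, Algebra.smul_def, Algebra.smul_def, mul_one]) }
  exact ⟨AlgEquiv.ofBijective τ (Finite.injective_iff_bijective.mp τ.injective), ht⟩

theorem tau_adj {g : GG F E m} (hg : g ∈ NU X U) {i j : Fin m} (hij : (j : ℕ) = i + 1) {τ τ' : E ≃ₐ[F] E}
    (hτ : ∀ c x, dBlock g i (c * x) = τ c * dBlock g i x) (hτ' : ∀ c x, dBlock g j (c * x) = τ' c * dBlock g j x) :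
    τ = τ' := by
  have hdi : dBlock g i 1 ≠ 0 := hU.dBlock_ne hg i one_ne_zero
  have ki : ∀ x, dBlock g i x = τ x * dBlock g i 1 := fun x => by rw [← hτ, mul_one]
  have kj : ∀ x, dBlock g j x = τ' x * dBlock g j 1 := fun x => by rw [← hτ', mul_one]
  have hmem : ∀ A ∈ M, (galMap (τ * τ'⁻¹)).comp A ∈ M := fun A hA => by
    obtain ⟨B, hB, hBe⟩ := hU.push hg hij (twist_mem hr hp hU.bimod τ' hA)
    have e : (galMap (τ * τ'⁻¹)).comp A = (mulE (dBlock g i 1)⁻¹).comp (B.comp (mulE (dBlock g j 1))) :=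
      LinearMap.ext fun y => by
        have h := hBe (τ'⁻¹ y)
        rw [ki, kj] at h
        simp only [LinearMap.comp_apply, galMap_apply] at h
        have e1 : τ' (τ'⁻¹ y) = y := τ'.apply_symm_apply y
        rw [e1, mul_comm y] at h
        simp only [LinearMap.comp_apply, galMap_apply, mulE_apply, AlgEquiv.mul_apply]
        rw [← h, mul_comm (τ (τ'⁻¹ (A y))), ← mul_assoc, inv_mul_cancel₀ hdi, one_mul]
    rw [e]
    exact hU.bimod.left _ _ (hU.bimod.right _ _ hB)
  have hmul := isMul_of_left_ideal hr hp hU.bimod hU.id_mem hU.ne_top hmem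
  have hone : τ * τ'⁻¹ = 1 := AlgEquiv.ext fun x => by
    have := hmul x
    simp only [galMap_apply, map_one, one_mul] at this
    exact this
  exact mul_inv_eq_one.mp hone

theorem exists_tau (hm : 2 ≤ m) {g : GG F E m} (hg : g ∈ NU X U) :
    ∃ τ : E ≃ₐ[F] E, ∀ i c x, dBlock g i (c * x) = τ c * dBlock g i x := by
  choose τ hτ using hU.exists_tau_at hr hp hm hg
  haveI : NeZero m := ⟨by omega⟩
  have h : ∀ (n : ℕ) (hn : n < m), τ ⟨n, hn⟩ = τ 0 := by
    intro n
    induction n with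
    | zero => intro hn; rfl
    | succ n ih =>
      intro hn
      rw [← ih (by omega)]
      exact (hU.tau_adj hr hp hg (i := ⟨n, by omega⟩) (j := ⟨n + 1, hn⟩) rfl (hτ _) (hτ _)).symm
  exact ⟨τ 0, fun i c x => by rw [← h i i.isLt]; exact hτ i c x⟩

end Core

/-- Compatibility of a Galois element with the diagonal blocks. -/
def HasTau (g : GG F E m) (τ : E ≃ₐ[F] E) : Prop := ∀ (i : Fin m) (c x : E), dBlock g i (c * x) = τ c * dBlock g i x

namespace Core

variable (hU : Core X M U)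

include hU

theorem hasTau_mul {g h : GG F E m} (hg : g ∈ NU X U) (hh : h ∈ NU X U) {τ τ' : E ≃ₐ[F] E} (a : HasTau g τ)
    (b : HasTau h τ') : HasTau (g * h) (τ * τ') := fun i c x => by
  rw [(hU.pres hg).dBlock_mul (hU.pres hh), LinearMap.comp_apply, LinearMap.comp_apply, b, a, AlgEquiv.mul_apply]

theorem hasTau_unique (i : Fin m) {g : GG F E m} (hg : g ∈ NU X U) {τ τ' : E ≃ₐ[F] E} (a : HasTau g τ)
    (b : HasTau g τ') : τ = τ' :=
  AlgEquiv.ext fun c => mul_right_cancel₀ (hU.dBlock_ne hg i one_ne_zero) ((a i c 1).symm.trans (b i c 1))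

variable (p : ℕ) [Fact p.Prime] [CharP F p]

include p

theorem mem_of_tau_one {g : GG F E m} (hg : g ∈ NU X U) (a : HasTau g 1) {k : ℕ} (hk : g ^ (p ^ k) = 1) :
    g ∈ U := by
  haveI : CharP E p := charE (F := F) p
  have hpow : ∀ (n : ℕ) (i : Fin m) (x : E), dBlock (g ^ n) i x = dBlock g i 1 ^ n * x := by
    intro n
    induction n with
    | zero => intro i x; rw [pow_zero, dBlock_one, pow_zero, one_mul]; rfl
    | succ n ih =>
      intro i x
      rw [pow_succ, (hU.pres (pow_mem hg n)).dBlock_mul (hU.pres hg), LinearMap.comp_apply, ih, pow_succ]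
      have e : dBlock g i x = x * dBlock g i 1 := by
        have h := a i x 1
        rw [mul_one, AlgEquiv.one_apply] at h
        exact h
      rw [e]; ring
  have hone : ∀ i : Fin m, dBlock g i 1 = 1 := fun i => by
    have h := hpow (p ^ k) i 1
    rw [hk, dBlock_one, LinearMap.id_apply, mul_one] at h
    have h3 : (dBlock g i 1 - 1) ^ (p ^ k) = 0 := by rw [sub_pow_char_pow, one_pow, ← h, sub_self]
    exact sub_eq_zero.mp (pow_eq_zero_iff'.mp h3).1
  refine hU.closed g hg.1 (fun v i hv => ?_) hg.2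
  rw [(hU.pres hg).apply_top hv]
  have h := a i (v i) 1
  rwa [mul_one, AlgEquiv.one_apply, hone, mul_one] at h

variable {r : ℕ} (hr : Module.finrank F E = r) (hp : r.Prime)

include hr hp

theorem mem_of_fix_line (hm : 2 ≤ m) {g : GG F E m} (hg : g ∈ NU X U) {k : ℕ} (hk : g ^ (p ^ k) = 1) (i₀ : Fin m)
    (hfix : ∀ c : E, g (Pi.single i₀ c) = Pi.single i₀ c) : g ∈ U := by
  obtain ⟨τ, hτ⟩ := hU.exists_tau hr hp hm hg
  have h1 : τ = 1 := AlgEquiv.ext fun c => by
    have h := hτ i₀ c 1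
    rw [mul_one, dBlock_apply, dBlock_apply, hfix, hfix, Pi.single_eq_same, Pi.single_eq_same, mul_one] at h
    exact h.symm
  exact hU.mem_of_tau_one p hg (h1 ▸ hτ) hk

omit hU hr hp in
theorem exists_normalizing {P : Subgroup (GG F E m)} (hP : IsPGroup p P) (hUP : U ≤ P) (hne : ¬ P ≤ U) :
    ∃ g ∈ P, g ∉ U ∧ ∀ u ∈ U, g * u * g⁻¹ ∈ U := by
  haveI : Group.IsNilpotent P := hP.isNilpotent
  have hlt : U.subgroupOf P < ⊤ := lt_top_iff_ne_top.mpr fun e => hne (Subgroup.subgroupOf_eq_top.mp e)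
  obtain ⟨⟨g, hgP⟩, hg, hgU⟩ := SetLike.exists_of_lt (Group.normalizerCondition_of_isNilpotent (U.subgroupOf P) hlt)
  refine ⟨g, hgP, hgU, fun u hu => ?_⟩
  exact (Subgroup.mem_normalizer_iff.mp hg ⟨u, hUP hu⟩).mp hu

theorem pGroup_bound (hm : 2 ≤ m) {P : Subgroup (GG F E m)} (hP : IsPGroup p P) (hPX : P ≤ X) (hUP : U ≤ P) :
    (r ≠ p → P ≤ U) ∧ Nat.card P ≤ p * Nat.card U := by
  classical
  haveI : NeZero m := ⟨by omega⟩
  have hpk : ∀ g ∈ P, ∃ k : ℕ, g ^ (p ^ k) = 1 := fun g hg => by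
    obtain ⟨k, hk⟩ := hP ⟨g, hg⟩
    exact ⟨k, congrArg Subtype.val hk⟩
  have hgal : Nat.card (E ≃ₐ[F] E) = r := gal_card hr
  have hfirst : r ≠ p → P ≤ U := by
    intro hrp
    by_contra hne
    obtain ⟨g, hgP, hgU, hgn⟩ := exists_normalizing p hP hUP hne
    have hg : g ∈ NU X U := ⟨hPX hgP, hgn⟩
    obtain ⟨τ, hτ⟩ := hU.exists_tau hr hp hm hg
    obtain ⟨k, hk⟩ := hpk g hgP
    have hpow : ∀ n : ℕ, HasTau (g ^ n) (τ ^ n) := by
      intro n
      induction n with
      | zero => intro i c x; simp [dBlock_one]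
      | succ n ih => rw [pow_succ, pow_succ]; exact hU.hasTau_mul (pow_mem hg n) hg ih hτ
    have h1 : τ ^ (p ^ k) = 1 := AlgEquiv.ext fun c => by
      have h := hpow (p ^ k) 0 c 1
      rw [hk, dBlock_one] at h
      simpa using h.symm
    have h2 : τ ^ r = 1 := by rw [← hgal]; exact pow_card_eq_one'
    have hcop : Nat.Coprime (p ^ k) r :=
      Nat.Coprime.pow_left k ((Nat.coprime_primes Fact.out hp).mpr (Ne.symm hrp))
    have h3 : τ = 1 := by
      rw [← orderOf_eq_one_iff]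
      exact Nat.eq_one_of_dvd_coprimes hcop (orderOf_dvd_of_pow_eq_one h1) (orderOf_dvd_of_pow_eq_one h2)
    exact hgU (hU.mem_of_tau_one p hg (h3 ▸ hτ) hk)
  refine ⟨hfirst, ?_⟩
  by_cases hrp : r = p
  swap
  · rw [le_antisymm (hfirst hrp) hUP]
    exact Nat.le_mul_of_pos_left _ (Fact.out : p.Prime).pos
  let N2 := P ⊓ NU X U
  have hUN : U ≤ N2 := fun u hu => ⟨hUP hu, hU.le_X hu, fun v hv => mul_mem (mul_mem hu hv) (inv_mem hu)⟩
  choose tf htf using fun g : N2 => hU.exists_tau hr hp hm g.2.2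
  have tf_mul : ∀ a b : N2, tf (a * b) = tf a * tf b := fun a b =>
    hU.hasTau_unique 0 (a * b).2.2 (htf (a * b)) (hU.hasTau_mul a.2.2 b.2.2 (htf a) (htf b))
  let χ : N2 →* (E ≃ₐ[F] E) := MonoidHom.mk' tf tf_mul
  have hker : ∀ a : N2, χ a = 1 → (a : GG F E m) ∈ U := fun a ha => by
    obtain ⟨k, hk⟩ := hpk a a.2.1
    exact hU.mem_of_tau_one p a.2.2 ((show tf a = 1 from ha) ▸ htf a) hk
  have hN2 : Nat.card N2 ≤ p * Nat.card U := by
    rw [← Subgroup.card_mul_index χ.ker, mul_comm]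
    refine Nat.mul_le_mul ?_ ?_
    · rw [Subgroup.index_ker]
      exact (Subgroup.card_le_card_group _).trans (by rw [hgal, hrp])
    · refine Nat.card_le_card_of_injective (fun a => (⟨(a : N2), hker a a.2⟩ : U)) fun a b e => ?_
      exact Subtype.ext (Subtype.ext (congrArg (fun z : U => (z : GG F E m)) e))
  suffices hle : P ≤ N2 from (Subgroup.card_le_of_le hle).trans hN2
  by_contra hne
  obtain ⟨g, hgP, hgN, hgn⟩ := exists_normalizing p hP (inf_le_left : N2 ≤ P) hne
  refine hgN ⟨hgP, hPX hgP, fun u hu => ?_⟩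
  have hcardE : p < Nat.card E := by
    haveI := finiteDimensional (F := F) (E := E)
    haveI : Finite F := Finite.of_injective _ (algebraMap F E).injective
    rw [show Nat.card E = Nat.card F ^ r from hr ▸ Module.natCard_eq_pow_finrank, ← hrp]
    exact Nat.lt_pow_self Finite.one_lt_card
  have hgN2 : ∀ v ∈ N2, g⁻¹ * v * g ∈ N2 := fun v hv => by
    have hfin : g⁻¹ ∈ NU ⊤ N2 := inv_mem (show g ∈ NU ⊤ N2 from ⟨trivial, hgn⟩)
    have := hfin.2 v hv
    rwa [inv_inv] at this
  have hline : ∀ c : E, ∀ j : Fin m, j ≠ 0 → g (Pi.single 0 c) j = 0 := by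
    intro c j hj
    have h0j : (0 : Fin m) < j := Fin.pos_iff_ne_zero.mpr hj
    let t : E → GG F E m := fun a => tv h0j.ne (mulE a)
    have htU : ∀ a, t a ∈ U := fun a => hU.root 0 j h0j _ (isMul_mulE a)
    let f : E → (E ≃ₐ[F] E) := fun a => χ ⟨g⁻¹ * t a * g, hgN2 _ (hUN (htU a))⟩
    obtain ⟨a, b, hab, he⟩ : ∃ a b, a ≠ b ∧ f a = f b := by
      by_contra hcon
      push Not at hcon
      have := Nat.card_le_card_of_injective f fun a b e => by_contra fun h => hcon a b h e
      rw [hgal, hrp] at this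
      omega
    let s : N2 := ⟨g⁻¹ * t a * g, hgN2 _ (hUN (htU a))⟩ * ⟨g⁻¹ * t b * g, hgN2 _ (hUN (htU b))⟩⁻¹
    have hs : χ s = 1 := by
      simp only [s, map_mul, map_inv]
      exact mul_inv_eq_one.mpr he
    have hsU := hU.le_BU (hker s hs)
    have h := hsU (Pi.single 0 c) 0 (fun k hk => Pi.single_eq_of_ne hk.ne' _)
    have hfix : ((s : N2) : GG F E m) (Pi.single 0 c) = Pi.single 0 c := funext fun k => by
      by_cases hk : k = 0
      · subst hk; rw [h]
      · exact hsU _ k fun l hl => Pi.single_eq_of_ne (fun e => by subst e; exact (Fin.zero_le k).not_gt hl) _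
    have hs' : ((s : N2) : GG F E m) = g⁻¹ * tv h0j.ne (mulE a - mulE b) * g := by
      simp only [s, Subgroup.coe_mul, Subgroup.coe_inv, t, mul_inv_rev, inv_inv, sub_eq_add_neg, ← tv_mul,
        ← tv_inv]
      group
    rw [hs', LinearEquiv.mul_apply, LinearEquiv.mul_apply] at hfix
    have h2 : tv h0j.ne (mulE a - mulE b) (g (Pi.single 0 c)) = g (Pi.single 0 c) :=
      (g.apply_symm_apply _).symm.trans (congrArg g hfix)
    have h3 := congrFun h2 0
    rw [tv_apply_self, add_eq_left, LinearMap.sub_apply, mulE_apply, mulE_apply, ← sub_mul] at h3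
    exact (mul_eq_zero.mp h3).resolve_left (sub_ne_zero.mpr hab)
  obtain ⟨k, hk⟩ := hpk (g * u * g⁻¹) (mul_mem (mul_mem hgP (hUP hu)) (inv_mem hgP))
  refine hU.mem_of_fix_line p hr hp hm (hgn u (hUN hu)).2 hk 0 fun c => ?_
  have hsurj : Function.Surjective fun c : E => g (Pi.single 0 c) 0 :=
    Finite.surjective_of_injective fun a b e => by
      have hab : g (Pi.single 0 a) = g (Pi.single 0 b) := funext fun j => by
        by_cases hj : j = 0
        · subst hj; exact e
        · rw [hline a j hj, hline b j hj]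
      exact Pi.single_injective 0 (g.injective hab)
  obtain ⟨c', hc' : g (Pi.single 0 c') 0 = c⟩ := hsurj c
  have e : g (Pi.single 0 c') = Pi.single 0 c := funext fun j => by
    by_cases hj : j = 0
    · subst hj; rw [hc', Pi.single_eq_same]
    · rw [hline c' j hj, Pi.single_eq_of_ne hj]
  have hinv : g⁻¹ (Pi.single 0 c) = Pi.single 0 c' := by rw [← e]; exact g.symm_apply_apply _
  rw [LinearEquiv.mul_apply, LinearEquiv.mul_apply, hinv, ← e]
  congr 1
  exact funext fun k => by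
    by_cases hk : k = 0
    · subst hk; exact hU.le_BU hu _ 0 fun l hl => Pi.single_eq_of_ne hl.ne' _
    · exact hU.le_BU hu _ k fun l hl => Pi.single_eq_of_ne (fun e => by subst e; exact (Fin.zero_le k).not_gt hl) _

end Core

end Cfsg.Agent.Classical.FieldExt
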