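/-
The exceptional configuration inside `GL₄(2)`.
-/
import Cfsg.Agent.Lib.Classical.FieldExt.Norm

set_option autoImplicit false
set_option linter.style.haveILetI false
set_option linter.unusedSectionVars false

namespace Cfsg.Agent.Classical.FieldExt

variable {F E : Type*} [Field F] [Field E] [Algebra F E] [Finite E]
  {X : Subgroup (GG F E 2)} {M : AddSubgroup (E →ₗ[F] E)} {U : Subgroup (GG F E 2)}

theorem special_false [Fact (Nat.Prime 2)] [CharP F 2] (hq : Nat.card F = 2) (hr : Module.finrank F E = 2)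
    (hN : ∀ g : GG F E 2, Semi g → LinearEquiv.det g = 1 → g ∈ X)
    (hUX : X ⊓ BU F E 2 = U) (hUlin : ∀ u ∈ U, ∃ a : E, u = tv (zero_ne_one : (0 : Fin 2) ≠ 1) (mulE a))
    (hroot : ∀ a : E, tv (zero_ne_one : (0 : Fin 2) ≠ 1) (mulE a) ∈ U)
    {d : GG F E 2} (hd : d ∈ X) {φ : GG F E 2} {σ : E ≃ₐ[F] E} (hσ : σ ≠ 1)
    (hφ : ∀ v i, φ v i = σ (v i)) (hφU : d⁻¹ * φ * d ∈ U) : False := by
  classical
  haveI : CharP E 2 := charE (F := F) 2
  haveI : Finite F := Finite.of_injective _ (algebraMap F E).injective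
  haveI := finiteDimensional (F := F) (E := E)
  have hE : Nat.card E = 4 := by
    rw [Module.natCard_eq_pow_finrank (K := F) (V := E), hq, hr]
    norm_num
  obtain ⟨θ, hθ⟩ := exists_not_base (F := F) hr Nat.prime_two
  have hF : ∀ a : F, a = 0 ∨ a = 1 := fun a => by
    by_contra h
    push Not at h
    have h3 : Nat.card ({0, 1, a} : Finset F) ≤ Nat.card F := Nat.card_le_card_of_injective _ Subtype.val_injective
    have : ({0, 1, a} : Finset F).card = 3 := by
      rw [Finset.card_insert_of_notMem (by simp [Ne.symm h.1]), Finset.card_pair (Ne.symm h.2)]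
    rw [Nat.card_eq_fintype_card, Fintype.card_coe, this, hq] at h3
    omega
  have hθ0 : θ ≠ 0 := fun e => hθ 0 (by rw [map_zero, e])
  have hθ1 : θ ≠ 1 := fun e => hθ 1 (by rw [map_one, e])
  have hE4 : ∀ x : E, x = 0 ∨ x = 1 ∨ x = θ ∨ x = θ + 1 := by
    intro x
    by_contra h
    push Not at h
    obtain ⟨h0, h1, h2, h3⟩ := h
    have hθ1' : θ + 1 ≠ 0 := fun e => hθ1 (by rw [← CharTwo.add_eq_zero]; exact e)
    have hc : ({0, 1, θ, θ + 1, x} : Finset E).card = 5 := by
      rw [Finset.card_insert_of_notMem (by simp [zero_ne_one, Ne.symm hθ0, Ne.symm hθ1', Ne.symm h0]),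
        Finset.card_insert_of_notMem (by simp [Ne.symm hθ1, hθ0, Ne.symm h1]),
        Finset.card_insert_of_notMem (by simp [Ne.symm h2]), Finset.card_pair (Ne.symm h3)]
    have h5 : Nat.card ({0, 1, θ, θ + 1, x} : Finset E) ≤ Nat.card E := Nat.card_le_card_of_injective _ Subtype.val_injective
    rw [Nat.card_eq_fintype_card, Fintype.card_coe, hc, hE] at h5
    omega
  have hθ2 : θ * θ = θ + 1 := by
    rcases hE4 (θ * θ) with e | e | e | e
    · exact absurd (mul_self_eq_zero.mp e) hθ0
    · have : (θ + 1) * (θ + 1) = 0 := by rw [CharTwo.add_mul_self, e, one_mul, CharTwo.add_self_eq_zero]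
      exact absurd (CharTwo.add_eq_zero.mp (mul_self_eq_zero.mp this)) hθ1
    · exact absurd (mul_left_cancel₀ hθ0 (by rw [e, mul_one])) hθ1
    · exact e
  have hσθ : σ θ = θ + 1 := by
    rcases hE4 (σ θ) with e | e | e | e
    · exact absurd (σ.injective (e.trans (map_zero σ).symm)) hθ0
    · exact absurd (σ.injective (e.trans (map_one σ).symm)) hθ1
    · exact absurd (gal_inj_at hr Nat.prime_two hθ (τ := 1) e) hσ
    · exact e
  -- the conjugated group
  let t : E → GG F E 2 := fun a => d * tv (zero_ne_one : (0 : Fin 2) ≠ 1) (mulE a) * d⁻¹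
  have htX : ∀ a, t a ∈ X := fun a =>
    mul_mem (mul_mem hd (hUX.ge (hroot a)).1) (inv_mem hd)
  obtain ⟨b, hb⟩ := hUlin _ hφU
  have hφt : t b = φ := by simp only [t, ← hb]; group
  have hb0 : b ≠ 0 := fun e => by
    have h1 : φ = 1 := by
      rw [← hφt, e]
      have e0 : mulE (F := F) (0 : E) = 0 := LinearMap.ext fun x => by simp [mulE_apply]
      simp [t, e0, tv_zero]
    have h := hφ (Pi.single 0 θ) 0
    rw [h1] at h
    simp [hσθ] at h
  have hfix : ∀ a, a ≠ 0 → ∀ v, t a v = v ↔ (d⁻¹ v) 1 = 0 := fun a ha v => by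
    simp only [t, LinearEquiv.mul_apply]
    constructor
    · intro h
      have h2 : tv (zero_ne_one : (0 : Fin 2) ≠ 1) (mulE a) (d⁻¹ v) = d⁻¹ v :=
        (d.symm_apply_apply _).symm.trans (congrArg d.symm h)
      have h3 := congrFun h2 0
      rw [tv_apply_self, add_eq_left, mulE_apply] at h3
      exact (mul_eq_zero.mp h3).resolve_left ha
    · intro h
      have h2 : tv (F := F) (zero_ne_one : (0 : Fin 2) ≠ 1) (mulE a) (d⁻¹ v) = d⁻¹ v := by
        rw [tv_apply, h, map_zero, Pi.single_zero, add_zero]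
      rw [h2]
      exact d.apply_symm_apply v
  have hD : ∀ v, (d⁻¹ v) 1 = 0 ↔ ∀ i, v i = 0 ∨ v i = 1 := fun v => by
    rw [← hfix b hb0 v, hφt]
    constructor
    · intro h i
      have h' := congrFun h i
      rw [hφ] at h'
      rcases hE4 (v i) with e | e | e | e
      · exact Or.inl e
      · exact Or.inr e
      · rw [e, hσθ] at h'; simp at h'
      · rw [e, map_add, map_one, hσθ] at h'; simp at h'
    · intro h
      funext i
      rw [hφ]
      rcases h i with e | e <;> simp [e]
  have himg : ∀ a v i, (t a v - v) i = 0 ∨ (t a v - v) i = 1 := fun a v i => by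
    refine (hD _).mp ?_ i
    have e : d⁻¹ (t a v) = tv (F := F) (zero_ne_one : (0 : Fin 2) ≠ 1) (mulE a) (d⁻¹ v) := by
      simp only [t, LinearEquiv.mul_apply]
      exact d.symm_apply_apply _
    rw [map_sub, Pi.sub_apply, e, tv_apply_ne _ (Ne.symm (zero_ne_one : (0 : Fin 2) ≠ 1)), sub_self]
  have hadd : ∀ a c v, t (a + c) v - v = (t a v - v) + (t c v - v) := fun a c v => by
    have e1 : mulE (F := F) (a + c) = mulE a + mulE c := LinearMap.ext fun x => by simp [mulE_apply, add_mul]
    have e : t (a + c) = t a * t c := by simp only [t, e1, ← tv_mul]; group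
    have hc : (d⁻¹ (t c v - v)) 1 = 0 := (hD _).mpr (himg c v)
    have h2 : t a (t c v - v) = t c v - v := by
      by_cases ha : a = 0
      · have e0 : mulE (F := F) (0 : E) = 0 := LinearMap.ext fun x => by simp [mulE_apply]
        subst ha
        simp [t, e0, tv_zero]
      · exact (hfix a ha _).mpr hc
    rw [e, LinearEquiv.mul_apply]
    rw [map_sub, sub_eq_iff_eq_add] at h2
    rw [h2]
    abel
  -- the image of `θ e₀` under the conjugates
  let P : Fin 2 → Fin 2 → E := fun i j => if i = j then θ else 0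
  have hPsum : ∀ a : E, a ≠ 0 → ∀ k : Fin 2, t a (Pi.single k θ) ≠ Pi.single k θ := fun a ha k h => by
    rcases (hD _).mp ((hfix a ha _).mp h) k with e | e
    · exact hθ0 (by simpa using e)
    · exact hθ1 (by simpa using e)
  let D : Finset (Fin 2 → E) := {![0, 0], ![1, 0], ![0, 1], ![1, 1]}
  have hinD : ∀ a v, t a v - v ∈ D := fun a v => by
    have e : t a v - v = ![(t a v - v) 0, (t a v - v) 1] := funext fun i => by fin_cases i <;> rfl
    rw [e]
    rcases himg a v 0 with e0 | e0 <;> rcases himg a v 1 with e1 | e1 <;> simp [e0, e1, D]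
  letI := Fintype.ofFinite E
  have hfinj : Function.Injective fun a => t a (Pi.single 0 θ) - Pi.single 0 θ := fun a c h => by
    by_contra hac
    refine hPsum (a + c) (fun e => hac (CharTwo.add_eq_zero.mp e)) 0 ?_
    rw [← sub_eq_zero, hadd]
    simp only at h
    rw [h]
    funext i
    exact CharTwo.add_self_eq_zero _
  have hsurj : ∀ y ∈ D, ∃ a, t a (Pi.single 0 θ) - Pi.single 0 θ = y := by
    intro y hy
    have himD : Finset.univ.image (fun a => t a (Pi.single 0 θ) - Pi.single 0 θ) = D := by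
      refine Finset.eq_of_subset_of_card_le (fun z hz => ?_) ?_
      · obtain ⟨a, -, rfl⟩ := Finset.mem_image.mp hz
        exact hinD _ _
      · rw [Finset.card_image_of_injective _ hfinj, Finset.card_univ, Fintype.card_eq_nat_card, hE]
        exact Finset.card_le_four
    rw [← himD] at hy
    obtain ⟨a, -, ha⟩ := Finset.mem_image.mp hy
    exact ⟨a, ha⟩
  obtain ⟨a, ha⟩ := hsurj ![0, 1] (by simp [D])
  have ha0 : a ≠ 0 := fun e => hPsum b hb0 0 (by
    exfalso
    have e0 : mulE (F := F) (0 : E) = 0 := LinearMap.ext fun x => by simp [mulE_apply]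
    rw [e] at ha
    have := congrFun ha 1
    simp [t, e0, tv_zero] at this)
  have hb1 : ∀ k, t b (Pi.single k θ) - Pi.single k θ = Pi.single k 1 := fun k => by
    rw [hφt]
    funext i
    rw [Pi.sub_apply, hφ]
    by_cases h : i = k
    · subst h; simp [hσθ]
    · simp [Pi.single_eq_of_ne h]
  have ha1 : t a (Pi.single 1 θ) - Pi.single 1 θ = ![1, 1] := by
    have hy := hinD a (Pi.single 1 θ)
    simp only [D, Finset.mem_insert, Finset.mem_singleton] at hy
    rcases hy with e | e | e | e
    · refine absurd (sub_eq_zero.mp (e.trans ?_)) (hPsum a ha0 1)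
      funext i; fin_cases i <;> rfl
    · exfalso
      have hab : a + b ≠ 0 := fun h => by
        have h' : a = b := CharTwo.add_eq_zero.mp h
        rw [h', hb1] at ha
        have := congrFun ha 0
        simp at this
      have h2 : t (a + b) (Pi.single 0 θ + Pi.single 1 θ) = Pi.single 0 θ + Pi.single 1 θ := by
        rw [← sub_eq_zero]
        calc t (a + b) (Pi.single 0 θ + Pi.single 1 θ) - (Pi.single 0 θ + Pi.single 1 θ) =
            (t (a + b) (Pi.single 0 θ) - Pi.single 0 θ) + (t (a + b) (Pi.single 1 θ) - Pi.single 1 θ) := by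
              rw [map_add]; abel
          _ = 0 := by
              rw [hadd, hadd, ha, e, hb1, hb1]
              funext i; fin_cases i <;> simp [CharTwo.add_self_eq_zero, Matrix.vecHead, Matrix.vecTail]
      rcases (hD _).mp ((hfix _ hab _).mp h2) 0 with e' | e'
      · exact hθ0 (by simpa using e')
      · exact hθ1 (by simpa using e')
    · exfalso
      have h2 : t a (Pi.single 0 θ + Pi.single 1 θ) = Pi.single 0 θ + Pi.single 1 θ := by
        rw [← sub_eq_zero]
        calc t a (Pi.single 0 θ + Pi.single 1 θ) - (Pi.single 0 θ + Pi.single 1 θ) =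
            (t a (Pi.single 0 θ) - Pi.single 0 θ) + (t a (Pi.single 1 θ) - Pi.single 1 θ) := by
              rw [map_add]; abel
          _ = 0 := by
              rw [ha, e]
              funext i; fin_cases i <;> simp [CharTwo.add_self_eq_zero, Matrix.vecHead, Matrix.vecTail]
      rcases (hD _).mp ((hfix _ ha0 _).mp h2) 0 with e' | e'
      · exact hθ0 (by simpa using e')
      · exact hθ1 (by simpa using e')
    · exact e
  -- the explicit element
  have hs0 : ∀ x : E, (x = 0 ∨ x = 1) → ∀ k, t a (Pi.single k x) = Pi.single k x := fun x hx k =>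
    (hfix a ha0 _).mpr ((hD _).mpr fun i => by
      by_cases h : i = k
      · subst h; simpa using hx
      · exact Or.inl (Pi.single_eq_of_ne h _))
  have hsplit : ∀ x y : E, (![x, y] : Fin 2 → E) = Pi.single 0 x + Pi.single 1 y := fun x y => by
    funext i; fin_cases i <;> simp
  have hsx : t a (Pi.single 0 θ) = ![θ, 1] := by
    rw [sub_eq_iff_eq_add.mp ha]; funext i; fin_cases i <;> simp
  have hsy : t a (Pi.single 1 θ) = ![1, θ + 1] := by
    rw [sub_eq_iff_eq_add.mp ha1]; funext i; fin_cases i <;> simp [add_comm]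
  have hdet : ∀ g : GG F E 2, LinearEquiv.det g = 1 := fun g => by
    rcases hF ((LinearEquiv.det g : Fˣ) : F) with e | e
    · exact absurd e (Units.ne_zero _)
    · exact Units.ext e
  let u : E → GG F E 2 := fun c => tv (zero_ne_one : (0 : Fin 2) ≠ 1) (mulE c)
  let l : GG F E 2 := tv (zero_ne_one : (0 : Fin 2) ≠ 1).symm LinearMap.id
  let W : Fin 2 → GG F E 2 := fun k => dg (fun i => if i = k then Units.mk0 θ hθ0 else 1)
  let T : GG F E 2 := t a * u θ * l * u (θ + 1) * t a * W 0 * W 1
  have hlin : ∀ g : GG F E 2, g ∈ Lin F E 2 → g ∈ X := fun g hg => hN g (semi_of_lin hg) (hdet g)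
  have hT : T ∈ X :=
    mul_mem (mul_mem (mul_mem (mul_mem (mul_mem (mul_mem (htX a) (hlin _ (tv_mem_Lin _ (isMul_mulE _))))
      (hlin _ (tv_mem_Lin _ isMul_id))) (hlin _ (tv_mem_Lin _ (isMul_mulE _)))) (htX a))
      (hlin _ (dg_mem_Lin _))) (hlin _ (dg_mem_Lin _))
  have hu : ∀ c x y, u c ![x, y] = ![x + c * y, y] := fun c x y => by
    funext i; fin_cases i <;> simp [u, tv_apply, mulE_apply]
  have hl : ∀ x y, l ![x, y] = ![x, y + x] := fun x y => by
    funext i; fin_cases i <;> simp [l, tv_apply]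
  have hW0 : ∀ x y, W 0 ![x, y] = ![θ * x, y] := fun x y => by
    funext i; fin_cases i <;> simp [W, dg_apply]
  have hW1 : ∀ x y, W 1 ![x, y] = ![x, θ * y] := fun x y => by
    funext i; fin_cases i <;> simp [W, dg_apply]
  have h2 : ∀ x : E, x + x = 0 := fun x => CharTwo.add_self_eq_zero x
  have s01 : t a ![0, θ] = ![1, θ + 1] := by
    rw [hsplit, Pi.single_zero, zero_add, hsy]
  have s03 : t a ![0, θ + 1] = ![1, θ] := by
    rw [hsplit, Pi.single_zero, zero_add, Pi.single_add, map_add, hsy, hs0 1 (Or.inr rfl)]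
    funext i; fin_cases i <;> simp [add_assoc, h2]
  have s30 : t a ![θ + 1, 0] = ![θ + 1, 1] := by
    rw [hsplit, Pi.single_zero, add_zero, Pi.single_add, map_add, hsx, hs0 1 (Or.inr rfl)]
    funext i; fin_cases i <;> simp
  have s32 : t a ![θ + 1, θ] = ![θ, θ] := by
    rw [hsplit, map_add, Pi.single_add, map_add, hsx, hs0 1 (Or.inr rfl), hsy]
    funext i
    fin_cases i
    · simp [add_assoc, h2, Matrix.vecHead, Matrix.vecTail]
    · simp [add_left_comm, h2, Matrix.vecHead, Matrix.vecTail]
  have hθ3 : θ * (θ + 1) = 1 := by linear_combination hθ2 + h2 θ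
  have hTa : T ![0, 1] = ![θ + 1, 1] := by
    simp only [T, LinearEquiv.mul_apply, hW1, hW0, mul_one, mul_zero, s01, hu]
    rw [show (1 : E) + (θ + 1) * (θ + 1) = θ + 1 by linear_combination hθ2 + h2 θ + h2 1]
    rw [hl, h2, hu, mul_zero, add_zero, s30]
  have hTb : T ![0, θ] = ![θ, θ] := by
    simp only [T, LinearEquiv.mul_apply, hW1, hW0, mul_zero, hθ2, s03, hu]
    rw [show (1 : E) + (θ + 1) * θ = 0 by linear_combination hθ2 + h2 θ + h2 1]
    rw [hl, add_zero, hu, zero_add, hθ2, s32]
  have hTfix : ∀ x, T ![x, 0] = ![x, 0] := by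
    intro x
    have h1 : T ![1, 0] = ![1, 0] := by
      simp only [T, LinearEquiv.mul_apply, hW1, hW0, mul_one, mul_zero]
      rw [hsplit θ, Pi.single_zero, add_zero, hsx, hu, mul_one, h2 θ |> fun e => show θ + (θ + 1) = 1 by
        rw [← add_assoc, e, zero_add], hl, h2, hu, mul_zero, add_zero, hsplit 1, Pi.single_zero, add_zero,
        hs0 1 (Or.inr rfl)]
    have ht : T ![θ, 0] = ![θ, 0] := by
      simp only [T, LinearEquiv.mul_apply, hW1, hW0, mul_zero, hθ2]
      rw [s30, hu, mul_one, h2, hl, add_zero, hu, mul_one, zero_add, hsplit θ 1, map_add, hsx, hs0 1 (Or.inr rfl)]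
      funext i; fin_cases i <;> simp [h2]
    rcases hE4 x with rfl | rfl | rfl | rfl
    · simp [show (![0, 0] : Fin 2 → E) = 0 from funext fun i => by fin_cases i <;> rfl]
    · exact h1
    · exact ht
    · have e : (![θ + 1, 0] : Fin 2 → E) = ![θ, 0] + ![1, 0] := by funext i; fin_cases i <;> simp
      rw [e, map_add, ht, h1]
  have hTfull : ∀ v, T v 1 = v 1 := fun v => by
    have e : v = ![v 0, 0] + ![0, v 1] := by funext i; fin_cases i <;> simp
    conv_lhs => rw [e]
    rw [map_add, hTfix]
    rcases hE4 (v 1) with h | h | h | h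
    · rw [h, show (![0, 0] : Fin 2 → E) = 0 from funext fun i => by fin_cases i <;> rfl, map_zero]; simp
    · rw [h, hTa]; simp
    · rw [h, hTb]; simp
    · rw [h, show (![0, θ + 1] : Fin 2 → E) = ![0, θ] + ![0, 1] by funext i; fin_cases i <;> simp, map_add, hTa, hTb]
      simp
  have hTU : T ∈ U := hUX.le ⟨hT, fun v i hv => by
    fin_cases i
    · have h : v 1 = 0 := hv 1 (by decide)
      have e : v = ![v 0, 0] := by funext i; fin_cases i <;> simp [h]
      conv_lhs => rw [e]
      rw [hTfix]; simp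
    · exact hTfull v⟩
  obtain ⟨c, hc⟩ := hUlin T hTU
  have e1 := congrFun ((DFunLike.congr_fun hc ![0, 1]).symm.trans hTa) 0
  have e2 := congrFun ((DFunLike.congr_fun hc ![0, θ]).symm.trans hTb) 0
  simp [tv_apply, mulE_apply] at e1 e2
  subst e1
  exact hθ0 (mul_self_eq_zero.mp (by linear_combination e2))

end Cfsg.Agent.Classical.FieldExt
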