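/-
Overgroups of the semilinear group over an extension of prime degree (elementary proof).
-/
import Cfsg.Agent.Lib.Classical.FieldExt.Special

set_option autoImplicit false
set_option linter.style.haveILetI false
set_option linter.unusedSectionVars false

namespace Cfsg.Agent.Classical.FieldExt

variable {F E : Type*} [Field F] [Field E] [Algebra F E] [Finite E] {m : ℕ}

theorem BU_fix_line [NeZero m] {g : GG F E m} (hg : g ∈ BU F E m) (x : E) : g (Pi.single 0 x) = Pi.single 0 x :=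
  funext fun k => hg _ k fun l hl => Pi.single_eq_of_ne (fun e => by subst e; exact (Fin.zero_le k).not_gt hl) _

theorem lin_of_single {g : GG F E m}
    (h : ∀ (j : Fin m) (c x : E), g (Pi.single j (c * x)) = c • g (Pi.single j x)) : g ∈ Lin F E m := by
  intro c v
  have e1 : v = ∑ j, Pi.single j (v j) := (Finset.univ_sum_single v).symm
  have e2 : c • v = ∑ j, Pi.single j (c * v j) := by
    rw [Finset.univ_sum_single (fun j => c * v j)]; rfl
  rw [e2, map_sum]
  conv_rhs => rw [e1, map_sum, Finset.smul_sum]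
  exact Finset.sum_congr rfl fun j _ => h j c (v j)

variable (p : ℕ) [Fact p.Prime] [CharP F p] {X : Subgroup (GG F E m)}
  (hN : ∀ g : GG F E m, Semi g → LinearEquiv.det g = 1 → g ∈ X)

include p hN

theorem closed_three [NeZero m] (hmul : ∀ (i j : Fin m) (h : i ≠ j) (A : E →ₗ[F] E), tv h A ∈ X → IsMul A)
    {g : GG F E m} (hgX : g ∈ X) (hgB : g ∈ BU F E m)
    (hn : ∀ u ∈ X ⊓ BU F E m ⊓ Lin F E m, g * u * g⁻¹ ∈ X ⊓ BU F E m ⊓ Lin F E m) : g ∈ Lin F E m := by
  classical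
  have hg : g ∈ NU X (X ⊓ BU F E m ⊓ Lin F E m) := ⟨hgX, hn⟩
  have hroot : ∀ (i j : Fin m) (h : i < j), tv h.ne (LinearMap.id : E →ₗ[F] E) ∈ X ⊓ BU F E m ⊓ Lin F E m :=
    fun i j h => ⟨⟨tvE_mem p hN _ isMul_id, tv_mem_BU h _⟩, tv_mem_Lin _ isMul_id⟩
  have hi : ∀ i : Fin m, i ≠ 0 → ∀ (c : E) (v : Fin m → E), g (c • v) i = c * g v i := by
    intro i hi c v
    have h0i : (0 : Fin m) < i := Fin.pos_iff_ne_zero.mpr hi
    have h := (conj_inv_mem hg (hroot 0 i h0i)).2
    have e : ∀ w, (g⁻¹ * tv h0i.ne (LinearMap.id : E →ₗ[F] E) * g) w = w + Pi.single 0 (g w i) := fun w => by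
      rw [LinearEquiv.mul_apply, LinearEquiv.mul_apply, tv_apply, LinearMap.id_apply, map_add,
        BU_fix_line (inv_mem hgB)]
      congr 1
      exact g.symm_apply_apply w
    have h' := h c v
    rw [e, e, smul_add, add_right_inj, ← Pi.single_smul, smul_eq_mul] at h'
    exact Pi.single_injective 0 h'
  have hlast : ∀ (w : Fin m → E) (l : Fin m), (∀ k, k ≤ l) → g w l = w l :=
    fun w l hl => hgB w l fun k hk => absurd hk (hl k).not_gt
  let lst : Fin m := ⟨m - 1, by have := NeZero.pos m; omega⟩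
  have hle : ∀ k : Fin m, k ≤ lst := fun k => Fin.le_def.mpr (show (k : ℕ) ≤ m - 1 by have := k.isLt; omega)
  have hcol : ∀ j : Fin m, j ≠ lst → ∀ c x : E, g (Pi.single j (c * x)) = c • g (Pi.single j x) := by
    intro j hj c x
    have hjl : j < lst := lt_of_le_of_ne (hle j) hj
    have h := (hn _ (hroot j lst hjl)).2
    have e : ∀ w, (g * tv hjl.ne (LinearMap.id : E →ₗ[F] E) * g⁻¹) (g w) - g w = g (Pi.single j (w lst)) := fun w => by
      rw [LinearEquiv.mul_apply, LinearEquiv.mul_apply, show g⁻¹ (g w) = w from g.symm_apply_apply w, tv_apply,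
        LinearMap.id_apply, map_add, add_sub_cancel_left]
    have hw : g⁻¹ (c • g (Pi.single lst x)) lst = c * x := by
      rw [inv_mem hgB (c • g (Pi.single lst x)) lst (fun k hk => absurd hk (hle k).not_gt), Pi.smul_apply, smul_eq_mul,
        hlast _ _ hle, Pi.single_eq_same]
    have hb : g (g⁻¹ (c • g (Pi.single lst x))) = c • g (Pi.single lst x) := g.apply_symm_apply _
    have h1 := e (g⁻¹ (c • g (Pi.single lst x)))
    rw [hb, hw, h c, ← smul_sub, e, Pi.single_eq_same] at h1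
    exact h1.symm
  let B : E →ₗ[F] E :=
    ((LinearMap.proj (0 : Fin m)).comp (g.toLinearMap.comp (LinearMap.single F (fun _ : Fin m => E) lst))) -
      (LinearMap.mul F E).flip (g (Pi.single lst 1) 0)
  have hBv : ∀ x, B x = g (Pi.single lst x) 0 - x * g (Pi.single lst 1) 0 := fun x => rfl
  by_cases hl0 : lst = 0
  · refine lin_of_single fun j c x => ?_
    obtain rfl : j = 0 := le_antisymm (hl0 ▸ hle j) (Fin.zero_le _)
    rw [BU_fix_line hgB, BU_fix_line hgB, ← Pi.single_smul, smul_eq_mul]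
  have h0l : (0 : Fin m) < lst := Fin.pos_iff_ne_zero.mpr hl0
  let h := tv h0l.ne (-B) * g
  have hh : ∀ v, h v = g v + Pi.single 0 (-B (v lst)) := fun v => by
    simp only [h, LinearEquiv.mul_apply, tv_apply, LinearMap.neg_apply, hlast _ _ hle]
  have hhl : h ∈ Lin F E m := lin_of_single fun j c x => by
    by_cases hj : j = lst
    · subst hj
      funext i
      rw [hh, hh, Pi.single_eq_same, Pi.single_eq_same, Pi.smul_apply, smul_eq_mul, Pi.add_apply, Pi.add_apply]
      by_cases hi0 : i = 0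
      · subst hi0
        rw [Pi.single_eq_same, Pi.single_eq_same, hBv, hBv]
        ring
      · rw [Pi.single_eq_of_ne hi0, Pi.single_eq_of_ne hi0, add_zero, add_zero,
          show (Pi.single lst (c * x) : Fin m → E) = c • Pi.single lst x by rw [← Pi.single_smul, smul_eq_mul],
          hi i hi0]
    · rw [hh, hh, Pi.single_eq_of_ne (Ne.symm hj), Pi.single_eq_of_ne (Ne.symm hj), map_zero, neg_zero,
        Pi.single_zero, add_zero, add_zero, hcol j hj]
  have hhX : h ∈ X := hN h (semi_of_lin hhl) (BU_det p (mul_mem (tv_mem_BU h0l _) hgB))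
  have hBm : IsMul (-B) := hmul _ _ h0l.ne _ (by
    have e : tv h0l.ne (-B) = h * g⁻¹ := by simp only [h, mul_inv_cancel_right]
    rw [e]; exact mul_mem hhX (inv_mem hgX))
  have hB0 : -B = 0 := LinearMap.ext fun x => by
    rw [hBm x, LinearMap.neg_apply, hBv, one_mul, sub_self, neg_zero, zero_mul, LinearMap.zero_apply]
  have he : h = g := by simp only [h, hB0, tv_zero, one_mul]
  exact he ▸ hhl

theorem overgroup {r : ℕ} (hr : Module.finrank F E = r) (hp : r.Prime) (hm : 2 ≤ m) :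
    (∀ g ∈ X, Semi g) ∨ (∀ g : GG F E m, LinearEquiv.det g = 1 → g ∈ X) := by
  classical
  haveI : NeZero m := ⟨by omega⟩
  let j₁ : Fin m := ⟨1, hm⟩
  have h01 : (0 : Fin m) ≠ j₁ := fun e => by simp [j₁, Fin.ext_iff] at e
  let M : AddSubgroup (E →ₗ[F] E) := Mij X h01
  by_cases hMtop : M = ⊤
  · right
    refine det_ker_le hm fun i j hij => eq_top_iff.mpr fun A _ => ?_
    have hA : A ∈ M := hMtop ▸ AddSubgroup.mem_top A
    exact pair_step p hN h01 hij hA
  left
  by_contra hcon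
  push Not at hcon
  have hbi : IsBimod M := isBimod p hN hr hp.two_le h01
  have hmul3 : 3 ≤ m → ∀ (i j : Fin m) (h : i ≠ j) (A : E →ₗ[F] E), tv h A ∈ X → IsMul A := by
    intro h3 i j h A hA
    by_contra hnl
    refine hMtop (eq_top_of_subring hr hp hbi (id_mem_Mij p hN h01) (fun B hB C hC => ?_) (pair_step p hN h h01 hA) hnl)
    exact Mij_comp_of_three p hN h01 ⟨⟨2, by omega⟩, by simp [Fin.ext_iff], by simp [j₁, Fin.ext_iff]⟩ hB hC
  let Hc : Subgroup (GG F E m) := if m = 2 then ⊤ else Lin F E m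
  let U : Subgroup (GG F E m) := X ⊓ BU F E m ⊓ Hc
  have hHc : ∀ g, g ∈ Lin F E m → g ∈ Hc := fun g hg => by
    simp only [Hc]; split_ifs
    · trivial
    · exact hg
  have hHc2 : m = 2 → Hc = ⊤ := fun h => if_pos h
  have hHc3 : m ≠ 2 → Hc = Lin F E m := fun h => if_neg h
  have hU : Core X M U := by
    refine ⟨hbi, id_mem_Mij p hN h01, hMtop, inf_le_left.trans inf_le_left, inf_le_left.trans inf_le_right,
      fun i j h A hA => ⟨⟨tvE_mem p hN _ hA, tv_mem_BU h A⟩, hHc _ (tv_mem_Lin _ hA)⟩, ?_, ?_, ?_⟩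
    · intro i j h hij A hA
      have hlt : i < j := Fin.lt_def.mpr (by omega)
      refine ⟨⟨pair_step p hN h01 h hA, tv_mem_BU hlt A⟩, ?_⟩
      by_cases h2 : m = 2
      · rw [hHc2 h2]; trivial
      · exact hHc _ (tv_mem_Lin _ (hmul3 (by omega) _ _ h01 _ hA))
    · intro g hg i j hij
      by_cases h2 : m = 2
      · subst h2
        obtain rfl : i = 0 := Fin.ext (show (i : ℕ) = 0 by have := j.isLt; omega)
        have hj : j = j₁ := Fin.ext (show (j : ℕ) = 1 by simpa using hij)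
        subst hj
        let A : E →ₗ[F] E := (LinearMap.proj (0 : Fin 2)).comp (g.toLinearMap.comp (LinearMap.single F (fun _ : Fin 2 => E) j₁))
        refine ⟨A, ?_, fun x => rfl⟩
        have e : tv h01 A = g := LinearEquiv.ext fun v => by
          have ev : v = Pi.single 0 (v 0) + Pi.single j₁ (v j₁) := funext fun k => by
            fin_cases k <;> simp [j₁]
          funext k
          by_cases hk : k = 0
          · subst hk
            conv_rhs => rw [ev, map_add, Pi.add_apply, BU_fix_line hg.1.2, Pi.single_eq_same]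
            rw [tv_apply_self]
            rfl
          · rw [tv_apply_ne _ hk]
            refine (hg.1.2 v k fun l hl => ?_).symm
            have h1 : (k : ℕ) ≠ 0 := fun e => hk (Fin.ext e)
            have h2 : (k : ℕ) < l := hl
            have := l.isLt
            omega
        exact mem_Mij h01 |>.mpr (e ▸ hg.1.1)
      · refine ⟨mulE (g (Pi.single j 1) i), mulE_mem_Mij p hN h01 _, fun x => ?_⟩
        have hl : g ∈ Lin F E m := hHc3 h2 ▸ hg.2
        have h := congrFun (hl x (Pi.single j 1)) i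
        rw [← Pi.single_smul, smul_eq_mul, mul_one] at h
        rw [h, Pi.smul_apply, smul_eq_mul, mulE_apply, mul_comm]
    · intro g hgX hgB hn
      refine ⟨⟨hgX, hgB⟩, ?_⟩
      by_cases h2 : m = 2
      · rw [hHc2 h2]; trivial
      · rw [hHc3 h2]
        refine closed_three p hN (hmul3 (by omega)) hgX hgB fun u hu => ?_
        have := hn u ⟨hu.1, (hHc3 h2).symm ▸ hu.2⟩
        exact ⟨this.1, hHc3 h2 ▸ this.2⟩
  -- an orbit of length divisible by q
  obtain ⟨w₀, w', δ', hδ'X, hδ'0, hδ'w, hw₀, ⟨j, hj, hwj⟩, hdvd⟩ := orbit_step p hN hm 0 hcon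
  obtain ⟨δ, hδX, hδ0, c, hc, hδw⟩ : ∃ δ ∈ X, δ (Pi.single 0 1) = Pi.single 0 1 ∧
      ∃ c : E, c ≠ 0 ∧ δ w₀ = Pi.single j₁ c := by
    obtain ⟨k, hkX, hk0, hk1⟩ : ∃ k ∈ X, k (Pi.single 0 1) = Pi.single 0 1 ∧ k w' j₁ ≠ 0 := by
      by_cases h1 : w' j₁ = 0
      · have hj1 : j₁ ≠ j := fun e => hwj (e ▸ h1)
        refine ⟨tv hj1 LinearMap.id, tvE_mem p hN _ isMul_id, ?_, ?_⟩
        · rw [tv_apply, Pi.single_eq_of_ne hj, map_zero, Pi.single_zero, add_zero]
        · rw [tv_apply_self, h1, zero_add]; exact hwj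
      · exact ⟨1, one_mem X, rfl, h1⟩
    obtain ⟨u, hu⟩ : ∃ u, u = k w' := ⟨_, rfl⟩
    rw [← hu] at hk1
    have hc0 : ((u j₁)⁻¹ • ((Pi.single j₁ (u j₁) : Fin m → E) - u)) j₁ = 0 := by simp
    refine ⟨col j₁ _ hc0 * (k * δ'), mul_mem (hN _ (semi_of_lin (col_mem_Lin _ _ hc0)) (col_det p _ _ hc0))
      (mul_mem hkX hδ'X), ?_, u j₁, hk1, ?_⟩
    · rw [LinearEquiv.mul_apply, LinearEquiv.mul_apply, hδ'0, hk0, col_apply, Pi.single_eq_of_ne h01.symm,
        zero_smul, add_zero]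
    · rw [LinearEquiv.mul_apply, LinearEquiv.mul_apply, hδ'w, ← hu, col_apply, smul_smul, mul_inv_cancel₀ hk1, one_smul]
      abel
  haveI : Finite F := Finite.of_injective _ (algebraMap F E).injective
  haveI := finiteDimensional (F := F) (E := E)
  let Γ : Subgroup (GG F E m) := X ⊓ stab (Pi.single 0 1) ⊓ stab w₀
  have hw0e : w₀ = Pi.single 0 (w₀ 0) := funext fun k => by
    by_cases hk : k = 0
    · subst hk; simp
    · rw [hw₀ k hk, Pi.single_eq_of_ne hk]
  have hUG : U ≤ Γ := fun u hu => ⟨⟨hu.1.1, mem_stab.mpr (BU_fix_line hu.1.2 1)⟩, mem_stab.mpr (by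
    rw [hw0e]; exact BU_fix_line hu.1.2 _)⟩
  have hUp : IsPGroup p U := (BU_isPGroup p).to_le hU.le_BU
  obtain ⟨Q, hQ⟩ := (hUp.comap_of_injective Γ.subtype Subtype.val_injective).exists_le_sylow
  let Qm : Subgroup (GG F E m) := (Q : Subgroup Γ).map Γ.subtype
  have hQp : IsPGroup p Qm := Q.isPGroup'.map _
  have hUQ : U ≤ Qm := fun u hu => ⟨⟨u, hUG hu⟩, hQ (show (⟨u, hUG hu⟩ : Γ) ∈ U.comap Γ.subtype from hu), rfl⟩
  have hQX : Qm ≤ X := fun u hu => by
    obtain ⟨y, -, rfl⟩ := hu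
    exact y.2.1.1
  obtain ⟨P, hP⟩ := (hQp.comap_of_injective X.subtype Subtype.val_injective).exists_le_sylow
  let Pm : Subgroup (GG F E m) := (P : Subgroup X).map X.subtype
  have hPp : IsPGroup p Pm := P.isPGroup'.map _
  have hUP : U ≤ Pm := fun u hu => ⟨⟨u, hQX (hUQ hu)⟩,
    hP (show (⟨u, hQX (hUQ hu)⟩ : X) ∈ Qm.comap X.subtype from hUQ hu), rfl⟩
  have hPX : Pm ≤ X := Subgroup.map_subtype_le _
  obtain ⟨hfirst, hbound⟩ := hU.pGroup_bound p hr hp hm hPp hPX hUP
  obtain ⟨f', hf'⟩ : ∃ f' : ℕ, Nat.card F = p ^ f' ∧ 1 ≤ f' := by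
    letI := Fintype.ofFinite F
    obtain ⟨n, -, hn⟩ := FiniteField.card F p
    exact ⟨n, by rw [Nat.card_eq_fintype_card, hn], n.pos⟩
  obtain ⟨a, ha⟩ := hQp.exists_card_eq
  have hQcard : Nat.card Qm ∣ Nat.card Γ := Subgroup.card_dvd_of_le (Subgroup.map_subtype_le _)
  have hPdvd : Nat.card F * Nat.card Qm ∣ Nat.card Pm := by
    have h1 : Nat.card F * Nat.card Qm ∣ Nat.card X := (mul_dvd_mul_left _ hQcard).trans hdvd
    rw [hf'.1, ha, ← pow_add] at h1 ⊢
    have h2 := P.pow_dvd_card_of_pow_dvd_card h1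
    rwa [← Subgroup.card_map_of_injective (K := (P : Subgroup X)) X.subtype_injective] at h2
  have hUQc : Nat.card U ≤ Nat.card Qm := Subgroup.card_le_of_le hUQ
  have hUpos : 0 < Nat.card U := Nat.card_pos
  have hPle : Nat.card F * Nat.card Qm ≤ Nat.card Pm := Nat.le_of_dvd Nat.card_pos hPdvd
  have hq2 : 2 ≤ Nat.card F := Finite.one_lt_card
  have hrp : r = p := by
    by_contra hne
    have : Nat.card Pm ≤ Nat.card U := Subgroup.card_le_of_le (hfirst hne)
    nlinarith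
  have hqp : Nat.card F = p := by
    have h1 : Nat.card F ≤ p := by
      by_contra h
      nlinarith
    have h2 : p ≤ Nat.card F := by
      rw [hf'.1]; exact Nat.le_self_pow (by omega) p
    omega
  have hQU : U = Qm := Subgroup.eq_of_le_of_card_ge hUQ (by
    rw [hqp] at hPle
    exact Nat.le_of_mul_le_mul_left (hPle.trans hbound) (Fact.out : p.Prime).pos)
  -- a p-group fixing the two vectors
  haveI : Fact r.Prime := ⟨hp⟩
  haveI : Finite (E ≃ₐ[F] E) := Finite.of_injective (fun g : E ≃ₐ[F] E => (g : E → E)) DFunLike.coe_injective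
  haveI : Nontrivial (E ≃ₐ[F] E) := Finite.one_lt_card_iff_nontrivial.mp (by rw [gal_card hr]; exact hp.one_lt)
  obtain ⟨σ, hσ⟩ := exists_ne (1 : E ≃ₐ[F] E)
  let s : Fin m → E := fun i => if i = j₁ then c else 1
  have hs : ∀ i, s i ≠ 0 := fun i => by
    simp only [s]; split_ifs
    · exact hc
    · exact one_ne_zero
  let ψ : (E ≃ₐ[F] E) → GG F E m := fun ρ => LinearEquiv.piCongrRight fun i =>
    LinearEquiv.ofBijective ((mulE (s i)).comp ((galMap ρ).comp (mulE (s i)⁻¹))) ⟨fun x y h => by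
      simpa [mulE_apply, galMap_apply, hs i] using h, fun y => ⟨s i * ρ⁻¹ ((s i)⁻¹ * y), by
        simp only [LinearMap.comp_apply, mulE_apply, galMap_apply]
        rw [← mul_assoc (s i)⁻¹, inv_mul_cancel₀ (hs i), one_mul,
          show ρ (ρ⁻¹ ((s i)⁻¹ * y)) = (s i)⁻¹ * y from ρ.apply_symm_apply _, ← mul_assoc, mul_inv_cancel₀ (hs i),
          one_mul]⟩⟩
  have hψ : ∀ ρ v i, ψ ρ v i = s i * ρ ((s i)⁻¹ * v i) := fun ρ v i => rfl
  have hψmul : ∀ ρ ρ', ψ (ρ * ρ') = ψ ρ * ψ ρ' := fun ρ ρ' => LinearEquiv.ext fun v => funext fun i => by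
    rw [LinearEquiv.mul_apply, hψ, hψ, hψ, ← mul_assoc (s i)⁻¹, inv_mul_cancel₀ (hs i), one_mul]
    rfl
  let Ψ : (E ≃ₐ[F] E) →* GG F E m := MonoidHom.mk' ψ hψmul
  have hσp : σ ^ p = 1 := by rw [← hrp, ← gal_card hr]; exact pow_card_eq_one'
  have hψsemi : ∀ ρ, ∀ (x : E) (v : Fin m → E), ψ ρ (x • v) = ρ x • ψ ρ v := fun ρ x v => funext fun i => by
    rw [hψ, Pi.smul_apply, Pi.smul_apply, smul_eq_mul, smul_eq_mul, hψ, ← mul_assoc (s i)⁻¹,
      mul_comm (s i)⁻¹, mul_assoc, map_mul]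
    ring
  have hψp : ∀ ρ, ψ ρ ^ p = 1 := fun ρ => by
    have h1 : ρ ^ p = 1 := by rw [← hrp, ← gal_card hr]; exact pow_card_eq_one'
    calc ψ ρ ^ p = Ψ (ρ ^ p) := (map_pow Ψ ρ p).symm
      _ = 1 := by rw [h1, map_one]
  have hψX : ∀ ρ, ψ ρ ∈ X := fun ρ =>
    hN _ ⟨ρ, hψsemi ρ⟩ (det_eq_one_of_pow p (k := 1) (by rw [pow_one, hψp]))
  have hψ1 : ∀ ρ, ψ ρ (Pi.single 0 1) = Pi.single 0 1 ∧ ψ ρ (Pi.single j₁ c) = Pi.single j₁ c := fun ρ => by
    constructor <;> funext i <;> rw [hψ]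
    · by_cases hi : i = 0
      · subst hi; simp [s, h01]
      · simp [Pi.single_eq_of_ne hi]
    · by_cases hi : i = j₁
      · subst hi; simp [s, inv_mul_cancel₀ hc, hc]
      · simp [Pi.single_eq_of_ne hi]
  let Q0 : Subgroup (GG F E m) := X ⊓ BU F E m ⊓ Lin F E m ⊓ stab (Pi.single j₁ 1)
  have hQ0 : ∀ ρ, ∀ q ∈ Q0, ψ ρ * q * (ψ ρ)⁻¹ ∈ Q0 := by
    rintro ρ q ⟨⟨⟨hqX, hqB⟩, hqL⟩, hq1⟩
    have hinv : (ψ ρ)⁻¹ = ψ ρ⁻¹ := (map_inv Ψ ρ).symm
    refine ⟨⟨⟨X.mul_mem (X.mul_mem (hψX ρ) hqX) (X.inv_mem (hψX ρ)), fun v i hv => ?_⟩, fun x v => ?_⟩, ?_⟩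
    · rw [hinv, LinearEquiv.mul_apply, LinearEquiv.mul_apply, hψ, hqB _ i (fun l hl => by rw [hψ, hv l hl]; simp),
        hψ, ← mul_assoc (s i)⁻¹, inv_mul_cancel₀ (hs i), one_mul,
        show ρ (ρ⁻¹ ((s i)⁻¹ * v i)) = (s i)⁻¹ * v i from ρ.apply_symm_apply _, ← mul_assoc, mul_inv_cancel₀ (hs i),
        one_mul]
    · rw [hinv, LinearEquiv.mul_apply, LinearEquiv.mul_apply, hψsemi, hqL, hψsemi,
        show ρ (ρ⁻¹ x) = x from ρ.apply_symm_apply _]
      rfl
    · refine mem_stab.mpr ?_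
      have e : (ψ ρ)⁻¹ (Pi.single j₁ 1) = (ψ ρ⁻¹ (Pi.single j₁ 1) j₁) • (Pi.single j₁ 1 : Fin m → E) := by
        rw [hinv]
        funext i
        by_cases hi : i = j₁
        · subst hi; simp
        · simp [hψ, Pi.single_eq_of_ne hi]
      rw [LinearEquiv.mul_apply, LinearEquiv.mul_apply, e, hqL, mem_stab.mp hq1, ← e]
      exact (ψ ρ).apply_symm_apply _
  let R : Subgroup (GG F E m) := Ψ.range ⊔ Q0
  have hRp : IsPGroup p R := by
    refine IsPGroup.to_sup_of_normal_right' ?_ ((BU_isPGroup p).to_le (inf_le_left.trans (inf_le_left.trans inf_le_right))) ?_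
    · rintro ⟨_, ρ, rfl⟩
      exact ⟨1, Subtype.ext (by rw [pow_one]; exact hψp ρ)⟩
    · rintro _ ⟨ρ, rfl⟩
      rw [Subgroup.mem_normalizer_iff]
      intro q
      refine ⟨hQ0 ρ q, fun hq => ?_⟩
      have h := hQ0 ρ⁻¹ _ hq
      have e : ψ ρ⁻¹ = (ψ ρ)⁻¹ := map_inv Ψ ρ
      rw [e, inv_inv] at h
      have e2 : (ψ ρ)⁻¹ * (Ψ ρ * q * (Ψ ρ)⁻¹) * ψ ρ = q := by
        change (ψ ρ)⁻¹ * (ψ ρ * q * (ψ ρ)⁻¹) * ψ ρ = q
        group
      rwa [e2] at h
  have hRfix : ∀ g ∈ R, g ∈ X ∧ g (Pi.single 0 1) = Pi.single 0 1 ∧ g (Pi.single j₁ c) = Pi.single j₁ c := by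
    intro g hg
    have : R ≤ X ⊓ stab (Pi.single 0 1) ⊓ stab (Pi.single j₁ c) := by
      refine sup_le ?_ fun q hq => ?_
      · rintro _ ⟨ρ, rfl⟩
        exact ⟨⟨hψX ρ, mem_stab.mpr (hψ1 ρ).1⟩, mem_stab.mpr (hψ1 ρ).2⟩
      · refine ⟨⟨hq.1.1.1, mem_stab.mpr (BU_fix_line hq.1.1.2 1)⟩, mem_stab.mpr ?_⟩
        rw [show (Pi.single j₁ c : Fin m → E) = c • Pi.single j₁ 1 by rw [← Pi.single_smul, smul_eq_mul, mul_one],
          hq.1.2, mem_stab.mp hq.2]
    exact ⟨(this hg).1.1, mem_stab.mp (this hg).1.2, mem_stab.mp (this hg).2⟩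
  obtain ⟨d, hdX, hd⟩ : ∃ d ∈ X, ∀ g ∈ R, d⁻¹ * g * d ∈ U := by
    let R' : Subgroup (GG F E m) := R.map (MulAut.conj δ⁻¹).toMonoidHom
    have hR' : R' ≤ Γ := by
      rintro _ ⟨g, hg, rfl⟩
      obtain ⟨hgX, hg0, hg1⟩ := hRfix g hg
      have hval : (MulAut.conj δ⁻¹).toMonoidHom g = δ⁻¹ * g * δ := by simp [MulAut.conj_apply]
      rw [hval]
      refine ⟨⟨X.mul_mem (X.mul_mem (X.inv_mem hδX) hgX) hδX, mem_stab.mpr ?_⟩, mem_stab.mpr ?_⟩
      · rw [LinearEquiv.mul_apply, LinearEquiv.mul_apply, hδ0, hg0]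
        conv_lhs => rw [← hδ0]
        exact δ.symm_apply_apply _
      · rw [LinearEquiv.mul_apply, LinearEquiv.mul_apply, hδw, hg1, ← hδw]
        exact δ.symm_apply_apply _
    obtain ⟨Q2, hQ2⟩ := ((hRp.map _ : IsPGroup p R').comap_of_injective Γ.subtype Subtype.val_injective).exists_le_sylow
    obtain ⟨γ, hγ⟩ := MulAction.exists_smul_eq Γ Q Q2
    refine ⟨δ * γ, mul_mem hδX γ.2.1.1, fun g hg => ?_⟩
    have hmem : δ⁻¹ * g * δ ∈ R' := ⟨g, hg, by simp [MulAut.conj_apply]⟩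
    have hin : (⟨δ⁻¹ * g * δ, hR' hmem⟩ : Γ) ∈ (Q2 : Subgroup Γ) := hQ2 (show _ ∈ R'.comap Γ.subtype from hmem)
    rw [← hγ, Sylow.coe_subgroup_smul, Subgroup.mem_pointwise_smul_iff_inv_smul_mem] at hin
    rw [hQU]
    refine ⟨_, hin, ?_⟩
    simp [MulAut.smul_def, MulAut.conj_apply, mul_assoc]
  have hfixd : ∀ x, ∀ g ∈ R, g (d (Pi.single 0 x)) = d (Pi.single 0 x) := fun x g hg => by
    have h := BU_fix_line (hU.le_BU (hd g hg)) x
    rw [LinearEquiv.mul_apply, LinearEquiv.mul_apply] at h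
    exact (d.apply_symm_apply _).symm.trans (congrArg d h)
  -- the fixed points of R are few
  have hψR : ∀ ρ, ψ ρ ∈ R := fun ρ => (le_sup_left : Ψ.range ≤ R) ⟨ρ, rfl⟩
  have hgalfix : ∀ x : E, σ x = x → ∃ a : F, algebraMap F E a = x := fun x hx => by
    by_contra h
    push Not at h
    exact hσ (gal_inj_at hr hp h (τ := 1) hx)
  have hFix : ∀ v : Fin m → E, (∀ g ∈ R, g v = v) → (∀ i, i ≠ 0 → i ≠ j₁ → v i = 0) ∧
      (∀ i, ∃ a : F, algebraMap F E a = (s i)⁻¹ * v i) := by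
    intro v hv
    refine ⟨fun i hi0 hi1 => ?_, fun i => hgalfix _ ?_⟩
    · have hlt : (0 : Fin m) < i := Fin.pos_iff_ne_zero.mpr hi0
      let T : GG F E m := tv hlt.ne LinearMap.id
      have hT : T ∈ Q0 := ⟨⟨⟨tvE_mem p hN _ isMul_id, tv_mem_BU hlt _⟩, tv_mem_Lin _ isMul_id⟩, mem_stab.mpr (by
        rw [tv_apply, Pi.single_eq_of_ne hi1, map_zero, Pi.single_zero, add_zero])⟩
      have h := congrFun (hv T ((le_sup_right : Q0 ≤ R) hT)) 0
      rwa [tv_apply_self, LinearMap.id_apply, add_eq_left] at h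
    · have h := congrFun (hv _ (hψR σ)) i
      rw [hψ] at h
      conv_rhs => rw [← h]
      rw [← mul_assoc, inv_mul_cancel₀ (hs i), one_mul]
  have hr2 : r = 2 := by
    have hle : Nat.card E ≤ Nat.card (F × F) := by
      choose af haf using fun x : E => (hFix _ (hfixd x)).2
      refine Nat.card_le_card_of_injective (fun x => (af x 0, af x j₁)) fun x y h => ?_
      simp only [Prod.mk.injEq] at h
      refine Pi.single_injective 0 (d.injective (funext fun i => ?_))
      by_cases h0 : i = 0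
      · subst h0
        exact mul_left_cancel₀ (inv_ne_zero (hs 0)) ((haf x 0).symm.trans ((congrArg _ h.1).trans (haf y 0)))
      by_cases h1 : i = j₁
      · subst h1
        exact mul_left_cancel₀ (inv_ne_zero (hs j₁)) ((haf x j₁).symm.trans ((congrArg _ h.2).trans (haf y j₁)))
      · rw [(hFix _ (hfixd x)).1 i h0 h1, (hFix _ (hfixd y)).1 i h0 h1]
    rw [Nat.card_prod, Module.natCard_eq_pow_finrank (K := F) (V := E), hr, ← sq] at hle
    have := (Nat.pow_le_pow_iff_right (Finite.one_lt_card : 1 < Nat.card F)).mp hle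
    have := hp.two_le
    omega
  subst hrp
  subst hr2
  rcases Nat.lt_or_ge m 3 with hm3 | hm3
  · obtain rfl : m = 2 := by omega
    have hone : ∀ g : GG F E 2, LinearEquiv.det g = 1 := fun g => by
      haveI : Subsingleton Fˣ := by
        rw [← Finite.card_le_one_iff_subsingleton, Nat.card_units, hqp]
      exact Subsingleton.elim _ _
    let k : GG F E 2 := dg fun i => if i = j₁ then (Units.mk0 c hc)⁻¹ else 1
    have hk : k ∈ X := hN _ (semi_of_lin (dg_mem_Lin _)) (hone _)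
    have hUX : X ⊓ BU F E 2 = U := by
      simp only [U, hHc2 rfl, inf_top_eq]
    have hlinM : ∀ A ∈ M, IsMul A := fun A hA => by
      by_contra hnl
      obtain ⟨τ, hτ, hτM⟩ := exists_gal_mem hr hp hbi hA hnl
      refine hMtop (eq_top_iff.mpr fun B _ => ?_)
      letI := Fintype.ofFinite (E ≃ₐ[F] E)
      obtain ⟨cf, hcf⟩ := exists_coeff hr B
      have e : B = ∑ ρ, (mulE (cf ρ)).comp (galMap ρ) := LinearMap.ext fun x => by
        rw [hcf, LinearMap.sum_apply]; rfl
      rw [e]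
      refine sum_mem fun ρ _ => hbi.left _ _ ?_
      by_cases h1 : ρ = 1
      · subst h1; exact id_mem_Mij _ hN h01
      · have h2 : Fintype.card (E ≃ₐ[F] E) = 2 := by rw [Fintype.card_eq_nat_card, gal_card hr]
        have : ρ = τ := by
          by_contra hne
          have := Finset.card_le_univ ({1, ρ, τ} : Finset (E ≃ₐ[F] E))
          rw [Finset.card_insert_of_notMem (by simp [Ne.symm h1, Ne.symm hτ]), Finset.card_pair hne, h2] at this
          omega
        exact this ▸ hτM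
    refine special_false hqp hr hN hUX (fun u hu => ?_) (fun a => hU.root 0 j₁ (Fin.pos_iff_ne_zero.mpr h01.symm) _ (isMul_mulE a))
      (d := k * d) (mul_mem hk hdX) (φ := k * ψ σ * k⁻¹) hσ (fun v i => ?_) ?_
    · obtain ⟨A, hA, hAe⟩ := hU.entry u hu 0 1 rfl
      refine ⟨A 1, LinearEquiv.ext fun v => funext fun i => ?_⟩
      rw [← eq_mulE (hlinM A hA)]
      fin_cases i
      · change u v 0 = _
        have ev : v = Pi.single 0 (v 0) + Pi.single 1 (v 1) := funext fun k => by fin_cases k <;> simp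
        conv_lhs => rw [ev, map_add, Pi.add_apply, BU_fix_line hu.1.2, Pi.single_eq_same, hAe]
        exact (tv_apply_self _ _ _).symm
      · change u v 1 = _
        rw [hu.1.2 v 1 fun l hl => absurd hl (by fin_cases l <;> simp)]
        exact (tv_apply_ne _ (by simp) _ _).symm
    · obtain ⟨u, hu⟩ : ∃ u, u = k⁻¹ v := ⟨_, rfl⟩
      have hv : v = k u := by rw [hu]; exact (k.apply_symm_apply v).symm
      rw [LinearEquiv.mul_apply, LinearEquiv.mul_apply, ← hu, hv, dg_apply, hψ, dg_apply]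
      by_cases hi : i = j₁
      · subst hi
        simp only [s, if_pos, Units.val_inv_eq_inv_val, Units.val_mk0]
        rw [← mul_assoc, inv_mul_cancel₀ hc, one_mul]
      · simp [s, hi]
    · have h := hd _ (hψR σ)
      rwa [show (k * d)⁻¹ * (k * ψ σ * k⁻¹) * (k * d) = d⁻¹ * ψ σ * d by group]
  -- images of R lie in a proper subspace
  · let lst : Fin m := ⟨m - 1, by omega⟩
    have hl0 : lst ≠ 0 := by simp only [lst, ne_eq, Fin.ext_iff, Fin.val_zero]; omega
    have hl1 : lst ≠ j₁ := by simp only [lst, j₁, ne_eq, Fin.ext_iff]; omega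
    have hle : ∀ k : Fin m, k ≤ lst := fun k => Fin.le_def.mpr (show (k : ℕ) ≤ m - 1 by have := k.isLt; omega)
    let μ : (Fin m → E) →ₗ[F] E := (LinearMap.proj lst).comp (d⁻¹).toLinearMap
    have hμ : ∀ g ∈ R, ∀ v, μ (g v - v) = 0 := fun g hg v => by
      have h := hU.le_BU (hd g hg) (d⁻¹ v) lst fun k hk => absurd hk (hle k).not_gt
      have e : (d⁻¹ * g * d) (d⁻¹ v) = d⁻¹ (g v) := by
        rw [LinearEquiv.mul_apply, LinearEquiv.mul_apply, show d (d⁻¹ v) = v from d.apply_symm_apply v]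
      rw [e] at h
      simp only [μ, LinearMap.comp_apply, LinearEquiv.coe_coe, LinearMap.proj_apply, map_sub, Pi.sub_apply, h, sub_self]
    have hμi : ∀ i, i ≠ lst → ∀ y, μ (Pi.single i y) = 0 := fun i hi y => by
      have hlt : i < lst := lt_of_le_of_ne (hle i) hi
      let T : GG F E m := tv hlt.ne (mulE y)
      have hT : T ∈ Q0 := ⟨⟨⟨tvE_mem _ hN _ (isMul_mulE y), tv_mem_BU hlt _⟩, tv_mem_Lin _ (isMul_mulE y)⟩,
        mem_stab.mpr (by rw [tv_apply, Pi.single_eq_of_ne hl1, map_zero, Pi.single_zero, add_zero])⟩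
      have h := hμ T ((le_sup_right : Q0 ≤ R) hT) (Pi.single lst 1)
      rwa [tv_apply, Pi.single_eq_same, mulE_apply, mul_one, add_sub_cancel_left] at h
    obtain ⟨θ, hθ⟩ := exists_not_base (F := F) hr hp
    have hz : σ θ - θ ≠ 0 := sub_ne_zero.mpr fun e => hσ (gal_inj_at hr hp hθ (τ := 1) e)
    have hμl : μ (Pi.single lst (σ θ - θ)) = 0 := by
      have h := hμ _ (hψR σ) (Pi.single lst θ)
      have e : ψ σ (Pi.single lst θ) - Pi.single lst θ = Pi.single lst (σ θ - θ) := funext fun i => by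
        rw [Pi.sub_apply, hψ]
        by_cases hi : i = lst
        · subst hi; simp [s, hl1]
        · simp [Pi.single_eq_of_ne hi]
      rwa [e] at h
    let κ : E →ₗ[F] E := μ.comp (LinearMap.single F (fun _ : Fin m => E) lst)
    have hsurj : Function.Surjective κ := fun y => by
      refine ⟨(d (Pi.single lst y)) lst, ?_⟩
      have e : μ (d (Pi.single lst y)) = y := by
        simp only [μ, LinearMap.comp_apply, LinearEquiv.coe_coe, LinearMap.proj_apply]
        rw [show d⁻¹ (d (Pi.single lst y)) = Pi.single lst y from d.symm_apply_apply _, Pi.single_eq_same]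
      conv_rhs => rw [← e, ← Finset.univ_sum_single (d (Pi.single lst y)), map_sum,
        Finset.sum_eq_single lst (fun i _ hi => hμi i hi _) (by simp)]
      rfl
    have hinj : Function.Injective κ := Finite.injective_iff_surjective.mpr hsurj
    exact hz (hinj (show κ (σ θ - θ) = κ 0 by rw [map_zero]; exact hμl))

end Cfsg.Agent.Classical.FieldExt
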