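/-
Extension field normalisers of prime degree are maximal in `GL_n(q)` and `SL_n(q)`.
-/
import Cfsg.Agent.Lib.Classical.FieldExt.Main
import Cfsg.Agent.Lib.Classical.FieldSubalgebra

set_option autoImplicit false
set_option linter.style.haveILetI false
set_option linter.unusedSectionVars false

namespace Cfsg.Agent.Classical.FieldExt

open Matrix Cfsg.Geo

theorem field_normalizer_maximal {F : Type*} [Field F] [Fintype F] (n r : ℕ) (hr : r.Prime) (hrn : r ∣ n) (hlt : r < n)
    (K : Subalgebra F (Matrix (Fin n) (Fin n) F)) (hK : IsFieldSubalgebra r K) :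
    IsCoatom (subalgebraNormalizer K) ∧
      IsMaximalIn (specialLinear (Fin n) F) (subalgebraNormalizer K ⊓ specialLinear (Fin n) F) := by
  classical
  haveI : Finite K := Finite.of_injective _ Subtype.val_injective
  letI : CommRing K := { K.toRing with mul_comm := fun a b => Subtype.ext (hK.comm a a.2 b b.2) }
  haveI : Nonempty (Fin n) := ⟨⟨0, by omega⟩⟩
  haveI : Nontrivial K := ⟨⟨0, 1, fun e => zero_ne_one (congrArg Subtype.val e)⟩⟩
  haveI : NoZeroDivisors K := ⟨fun {a b} hab =>
    (fieldSubalgebra_mul_eq_zero hK a.2 (congrArg Subtype.val hab)).imp (fun h => Subtype.ext h) fun h => Subtype.ext h⟩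
  haveI : IsDomain K := NoZeroDivisors.to_isDomain _
  letI : Field K := (Finite.isDomain_to_isField K).toField
  letI : Module K (Fin n → F) :=
    { smul := fun k v => (k : Matrix (Fin n) (Fin n) F) *ᵥ v
      one_smul := fun v => Matrix.one_mulVec v
      mul_smul := fun a b v => (Matrix.mulVec_mulVec v _ _).symm
      smul_zero := fun a => Matrix.mulVec_zero _
      smul_add := fun a u v => Matrix.mulVec_add _ u v
      add_smul := fun a b v => Matrix.add_mulVec _ _ v
      zero_smul := fun v => Matrix.zero_mulVec v }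
  have hsmul : ∀ (k : K) (v : Fin n → F), k • v = (k : Matrix (Fin n) (Fin n) F) *ᵥ v := fun _ _ => rfl
  haveI : IsScalarTower F K (Fin n → F) := ⟨fun a k v => Matrix.smul_mulVec a (k : Matrix (Fin n) (Fin n) F) v⟩
  haveI : Module.Finite K (Fin n → F) := Module.Finite.of_finite
  obtain ⟨m, hmdef⟩ : ∃ m, Module.finrank K (Fin n → F) = m := ⟨_, rfl⟩
  have hrk : Module.finrank F K = r := hK.finrank_eq
  have hnm : r * m = n := by
    have h := Module.finrank_mul_finrank F K (Fin n → F)
    rw [hrk, hmdef, Module.finrank_fin_fun] at h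
    exact h
  have hm : 2 ≤ m := by
    by_contra h
    obtain ⟨k, rfl⟩ := hrn
    have : m ≤ 1 := by omega
    have := Nat.mul_le_mul_left r this
    omega
  haveI : NeZero m := ⟨by omega⟩
  let eb : (Fin n → F) ≃ₗ[K] (Fin m → K) := (Module.finBasisOfFinrankEq K (Fin n → F) hmdef).equivFun
  let eF : (Fin n → F) ≃ₗ[F] (Fin m → K) := eb.restrictScalars F
  let B := (Pi.basisFun F (Fin n)).map eF
  let φ : GG F K m ≃* GL (Fin n) F :=
    (LinearMap.GeneralLinearGroup.generalLinearEquiv F (Fin m → K)).symm.trans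
      (Units.mapEquiv (LinearMap.toMatrixAlgEquiv B).toMulEquiv)
  have hφ : ∀ g, ((φ g : GL (Fin n) F) : Matrix (Fin n) (Fin n) F) = LinearMap.toMatrix B B g.toLinearMap :=
    fun g => rfl
  have hact : ∀ (g : GG F K m) (v : Fin n → F), (φ g : Matrix (Fin n) (Fin n) F) *ᵥ v = eF.symm (g (eF v)) := by
    intro g v
    rw [hφ]
    have h := LinearMap.toMatrix_mulVec_repr B B g.toLinearMap (eF v)
    have e : ∀ x, (⇑(B.repr x) : Fin n → F) = eF.symm x := fun x => funext fun i => by
      simp [B, Pi.basisFun_repr]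
    rw [e, e, eF.symm_apply_apply] at h
    exact h
  have hdet : ∀ g : GG F K m, φ g ∈ specialLinear (Fin n) F ↔ LinearEquiv.det g = 1 := fun g => by
    rw [mem_specialLinear_iff, hφ, LinearMap.det_toMatrix, ← LinearEquiv.coe_det]
    exact ⟨fun h => Units.ext h, fun h => by rw [h, Units.val_one]⟩
  have hsm : ∀ (k : K) (x : Fin m → K), eF.symm (k • x) = (k : Matrix (Fin n) (Fin n) F) *ᵥ eF.symm x := fun k x => by
    rw [← hsmul]
    exact eb.symm.map_smul k x
  have hsm' : ∀ (k : K) (v : Fin n → F), eF ((k : Matrix (Fin n) (Fin n) F) *ᵥ v) = k • eF v := fun k v =>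
    eb.map_smul k v
  have hsemi : ∀ g : GG F K m, Semi g ↔ φ g ∈ subalgebraNormalizer K := by
    intro g
    constructor
    · rintro ⟨σ, hσ⟩
      have hconj : ∀ k : K, (φ g : Matrix (Fin n) (Fin n) F) * (k : Matrix (Fin n) (Fin n) F) *
          (((φ g)⁻¹ : GL (Fin n) F) : Matrix (Fin n) (Fin n) F) = (σ k : Matrix (Fin n) (Fin n) F) := fun k => by
        refine Matrix.ext_of_mulVec_single fun i => ?_
        rw [← Matrix.mulVec_mulVec, ← Matrix.mulVec_mulVec, hact, hsm', hσ, hsm, ← hact,
          gl_mulVec_inv_cancel]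
      have hinj : Function.Injective σ := fun a b h => by
        have h' : g (a • (Pi.single 0 1 : Fin m → K)) = g (b • (Pi.single 0 1 : Fin m → K)) := by rw [hσ, hσ, h]
        simpa using congrFun (g.injective h') 0
      intro k
      refine ⟨fun hk => by rw [hconj ⟨k, hk⟩]; exact (σ ⟨k, hk⟩).2, fun hk => ?_⟩
      obtain ⟨k₀, hk₀⟩ := Finite.surjective_of_injective hinj ⟨_, hk⟩
      have h2 : (σ k₀ : Matrix (Fin n) (Fin n) F) = (φ g : Matrix (Fin n) (Fin n) F) * k *
          (((φ g)⁻¹ : GL (Fin n) F) : Matrix (Fin n) (Fin n) F) := congrArg Subtype.val hk₀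
      rw [← hconj k₀] at h2
      have h3 := congrArg (fun z => (((φ g)⁻¹ : GL (Fin n) F) : Matrix (Fin n) (Fin n) F) * z * (φ g : Matrix (Fin n) (Fin n) F)) h2
      simp only [Matrix.mul_assoc] at h3
      simp only [← Units.val_mul, inv_mul_cancel, Units.val_one, Matrix.mul_one] at h3
      simp only [← Matrix.mul_assoc, ← Units.val_mul, inv_mul_cancel, Units.val_one, Matrix.one_mul] at h3
      rw [← h3]
      exact k₀.2
    · intro hg
      refine ⟨fun c => ⟨_, (hg c).mp c.2⟩, fun c v => eF.symm.injective ?_⟩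
      rw [hsm]
      conv_lhs => rw [← eF.apply_symm_apply v, ← hsm', ← hact]
      conv_rhs => rw [← eF.apply_symm_apply v, ← hact]
      rw [Matrix.mulVec_mulVec, Matrix.mulVec_mulVec, Matrix.mul_assoc _ _ (φ g : Matrix (Fin n) (Fin n) F),
        ← Units.val_mul, inv_mul_cancel, Units.val_one, Matrix.mul_one]
  obtain ⟨p, hchar⟩ := CharP.exists F
  haveI : Fact p.Prime := ⟨CharP.char_is_prime F p⟩
  have key : ∀ X : Subgroup (GL (Fin n) F), subalgebraNormalizer K ⊓ specialLinear (Fin n) F ≤ X →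
      X ≤ subalgebraNormalizer K ∨ specialLinear (Fin n) F ≤ X := by
    intro X hX
    rcases overgroup (X := X.comap φ.toMonoidHom) p
        (fun g hg hd => hX ⟨(hsemi g).mp hg, (hdet g).mpr hd⟩) hrk hr hm with h | h
    · refine Or.inl fun x hx => ?_
      have h' := (hsemi (φ.symm x)).mp (h _ (show φ (φ.symm x) ∈ X by rwa [φ.apply_symm_apply]))
      rwa [φ.apply_symm_apply] at h'
    · refine Or.inr fun x hx => ?_
      have h' : φ (φ.symm x) ∈ X := h _ ((hdet _).mp (by rwa [φ.apply_symm_apply]))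
      rwa [φ.apply_symm_apply] at h'
  have hnot : ¬ specialLinear (Fin n) F ≤ subalgebraNormalizer K := by
    intro h
    haveI : Fact r.Prime := ⟨hr⟩
    haveI : Finite (K ≃ₐ[F] K) := Finite.of_injective (fun g : K ≃ₐ[F] K => (g : K → K)) DFunLike.coe_injective
    haveI : Nontrivial (K ≃ₐ[F] K) := Finite.one_lt_card_iff_nontrivial.mp (by rw [gal_card hrk]; exact hr.one_lt)
    obtain ⟨σ, hσ⟩ := exists_ne (1 : K ≃ₐ[F] K)
    have h01 : (0 : Fin m) ≠ ⟨1, hm⟩ := fun e => by simp [Fin.ext_iff] at e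
    obtain ⟨τ, hτ⟩ := (hsemi (tv h01 (galMap σ))).mpr (h ((hdet _).mpr (tv_det p _ _)))
    refine hσ (AlgEquiv.ext fun c => ?_)
    have h0 := congrFun (hτ c (Pi.single ⟨1, hm⟩ 1)) 0
    have h1 := congrFun (hτ c (Pi.single ⟨1, hm⟩ 1)) ⟨1, hm⟩
    simp [tv_apply, Pi.single_eq_of_ne h01, Pi.single_eq_of_ne h01.symm, galMap_apply] at h0 h1
    rw [AlgEquiv.one_apply, h0, ← h1]
  refine ⟨⟨fun h => hnot (h ▸ le_top), fun X hX => ?_⟩, lt_of_le_of_ne inf_le_right (fun h => hnot (h ▸ inf_le_left)),
    fun X hX hXS => ?_⟩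
  · rcases key X (inf_le_left.trans hX.le) with h | h
    · exact absurd h hX.not_ge
    · refine eq_top_iff.mpr fun x _ => ?_
      obtain ⟨a, ha⟩ := FiniteField.unitsMap_norm_surjective F K (Matrix.GeneralLinearGroup.det x)
      let d : GG F K m := dg fun i => if i = 0 then a else 1
      have hdN : φ d ∈ X := hX.le ((hsemi d).mp (semi_of_lin (dg_mem_Lin _)))
      have hdd : Matrix.GeneralLinearGroup.det (φ d) = Matrix.GeneralLinearGroup.det x := Units.ext (by
        have e : (φ d : Matrix (Fin n) (Fin n) F).det = Algebra.norm F (a : K) := by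
          rw [hφ, LinearMap.det_toMatrix, ← LinearEquiv.coe_det, dg_det,
            Finset.prod_eq_single (0 : Fin m) (fun i _ hi => by rw [if_neg hi, Units.val_one, map_one]) (by simp), if_pos rfl]
        rw [Matrix.GeneralLinearGroup.val_det_apply, e]
        exact congrArg Units.val ha)
      have hmem : (φ d)⁻¹ * x ∈ specialLinear (Fin n) F := by
        change Matrix.GeneralLinearGroup.det ((φ d)⁻¹ * x) = 1
        rw [map_mul, map_inv, hdd, inv_mul_cancel]
      have h' := X.mul_mem hdN (h hmem)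
      rwa [mul_inv_cancel_left] at h'
  · rcases key X hX with h | h
    · exact Or.inl (le_antisymm (le_inf h hXS) hX)
    · exact Or.inr (le_antisymm hXS h)

end Cfsg.Agent.Classical.FieldExt
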